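import Groth.Agent.LocImmLib.Consequences
import Groth.Agent.NagataCompLib.GluePair
import Groth.Prelude.Def_BlowUp2

/-! Lifting a morphism to a localizing immersion after admissible blow-ups. -/

universe u

open CategoryTheory CategoryTheory.Limits AlgebraicGeometry TopologicalSpace

namespace Groth.Agent.LocImmLib

variable {X Y Z : Scheme.{u}}

theorem isFiniteTypeIdeal [IsLocallyNoetherian X] (I : X.IdealSheafData) : BlowUp.IsFiniteTypeIdeal I := fun U => by
  haveI := IsLocallyNoetherian.component_noetherian U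
  exact IsNoetherian.noetherian _

theorem isNoetherian_of_isBlowUp [IsNoetherian Y] {b : X ⟶ Y} {I : Y.IdealSheafData} (hb : BlowUp.IsBlowUp b I) :
    IsNoetherian X :=
  haveI := BlowUpLib.isProper_of_isBlowUp hb (isFiniteTypeIdeal I)
  haveI : IsLocallyNoetherian X := LocallyOfFiniteType.isLocallyNoetherian b
  haveI : CompactSpace X := QuasiCompact.compactSpace_of_compactSpace b
  { }

/-- A scheme on which the zero ideal is effective Cartier is empty. -/
theorem isEmpty_of_isEffCartier_bot (h : BlowUp.IsEffCartierIdeal (⊥ : X.IdealSheafData)) : IsEmpty X := by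
  refine ⟨fun x => ?_⟩
  obtain ⟨U, hxU, t, ht, hI⟩ := h x
  haveI : Nontrivial Γ(X, U.1) := PrimeSpectrum.nontrivial (U.2.primeIdealOf ⟨x, hxU⟩)
  refine nonZeroDivisors.ne_zero ht (Ideal.span_singleton_eq_bot.mp (hI ▸ ?_))
  simp [Scheme.IdealSheafData.ideal_bot]

/-- A blow-up off whose centre a localizing immersion lands receives it. -/
theorem exists_lift {W : Scheme.{u}} {b : X ⟶ Y} {I : Y.IdealSheafData} (hb : BlowUp.IsBlowUp b I) (f : W ⟶ Y)
    (hd : Disjoint (I.support : Set Y) (Set.range f)) : ∃ u : W ⟶ X, u ≫ b = f := by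
  obtain ⟨u, hu, -⟩ := hb.2 W f (by
    rw [show I.comap f = ⊤ from ?_]
    · exact EffCartLib.isEffCartier_top
    rw [← Scheme.IdealSheafData.support_eq_bot_iff, Scheme.IdealSheafData.support_comap]
    exact SetLike.ext fun w => iff_of_false (fun hw => Set.disjoint_left.mp hd hw ⟨w, rfl⟩) (fun hw => hw))
  exact ⟨u, hu⟩

/-- A morphism of finite type which is an open immersion on an open becomes an open immersion after
admissible blow-ups of source and target. -/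
theorem exists_modify [IsNoetherian Y] [IsNoetherian Z] (p : Y ⟶ Z) [IsSeparated p] [LocallyOfFiniteType p]
    (V : Y.Opens) [IsOpenImmersion (V.ι ≫ p)] :
    ∃ (M : Y.IdealSheafData) (K : Z.IdealSheafData) (Yt Zt : Scheme.{u}) (b : Yt ⟶ Y) (c : Zt ⟶ Z) (o : Yt ⟶ Zt),
      BlowUp.IsBlowUp b M ∧ BlowUp.IsAdmissibleFor V M ∧ BlowUp.IsBlowUp c K ∧
      BlowUp.IsAdmissibleFor (V.ι ≫ p).opensRange K ∧ IsOpenImmersion o ∧ o ≫ c = b ≫ p := by
  let V₀ := (V.ι ≫ p).opensRange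
  let Ω : Y.Opens := p ⁻¹ᵁ V₀
  have hVΩ : V ≤ Ω := fun v hv => ⟨⟨v, hv⟩, rfl⟩
  haveI := isNoetherian_opens V₀
  haveI := isNoetherian_opens Ω
  haveI := isNoetherian_opens V
  -- `V` is closed in `Ω`
  let s := Y.homOfLE hVΩ
  haveI : IsIso (s ≫ (p ∣_ V₀)) := by
    rw [show s ≫ (p ∣_ V₀) = (V.ι ≫ p).isoOpensRange.hom by
      rw [← cancel_mono V₀.ι, Category.assoc, morphismRestrict_ι]
      simp [s, V₀, Ω, Scheme.Hom.isoOpensRange]]
    infer_instance
  haveI : IsClosedImmersion s := IsClosedImmersion.of_comp s (p ∣_ V₀)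
  let R : Y.Opens := ⟨(Ω : Set Y) \ V, by
    have hcl : IsClosed (Set.range s) := s.isClosedEmbedding.isClosed_range
    have : ((Ω : Set Y) \ V) = Subtype.val '' (Set.range s)ᶜ := by
      ext y
      constructor
      · rintro ⟨hy, hyV⟩
        refine ⟨⟨y, hy⟩, ?_, rfl⟩
        rintro ⟨v, hv⟩
        have h2 : v.1 = y := (Scheme.homOfLE_apply hVΩ v).symm.trans (congrArg Subtype.val hv)
        exact hyV (h2 ▸ v.2)
      · rintro ⟨⟨z, hz⟩, hn, rfl⟩
        exact ⟨hz, fun hzV => hn ⟨⟨z, hzV⟩, Subtype.ext (Scheme.homOfLE_apply _ _)⟩⟩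
    rw [this]
    exact Ω.isOpen.isOpenMap_subtype_val _ hcl.isOpen_compl⟩
  have hRΩ : R ≤ Ω := fun y hy => hy.1
  haveI := isNoetherian_opens R
  let j := Y.homOfLE hRΩ
  haveI : QuasiCompact j := ⟨fun U hU hUc => NoetherianSpace.isCompact _⟩
  have hrj : Set.range j = (Set.range s)ᶜ := by
    ext ⟨z, hz⟩
    constructor
    · rintro ⟨r, hr⟩ ⟨v, hv⟩
      have h1 : r.1 = z := (Scheme.homOfLE_apply hRΩ r).symm.trans (congrArg Subtype.val hr)
      have h2 : v.1 = z := (Scheme.homOfLE_apply hVΩ v).symm.trans (congrArg Subtype.val hv)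
      exact r.2.2 (h1 ▸ h2 ▸ v.2)
    · intro hn
      exact ⟨⟨z, hz, fun hzV => hn ⟨⟨z, hzV⟩, Subtype.ext (Scheme.homOfLE_apply _ _)⟩⟩,
        Subtype.ext (Scheme.homOfLE_apply _ _)⟩
  have hrjc : IsClosed (Set.range j) := by
    rw [hrj]
    exact s.isOpenEmbedding.isOpen_range.isClosed_compl
  obtain ⟨J, ⟨hJ, hJd⟩, hJΩ⟩ := RGFlatLib.exists_extend_ideal_global V (NoetherianSpace.isCompact _) Ω
    (NoetherianSpace.isCompact _) j.ker (isFiniteTypeIdeal _) (by
      rw [Scheme.Hom.support_ker, hrjc.closure_eq, hrj]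
      exact Set.disjoint_left.mpr fun z hz hzV => hz ⟨⟨z.1, hzV⟩, Subtype.ext (Scheme.homOfLE_apply _ _)⟩)
  obtain ⟨Y₁, β, hβ⟩ := BlowUpLib.exists_isBlowUp Y J
  haveI := BlowUpLib.isProper_of_isBlowUp hβ hJ
  haveI := isNoetherian_of_isBlowUp hβ
  have hR : IsEmpty ↥(β ⁻¹ᵁ R : Y₁.Opens) := by
    refine isEmpty_of_isEffCartier_bot (X := ((β ⁻¹ᵁ R : Y₁.Opens) : Scheme.{u})) ?_
    have h := BlowUpLib.isEffCartier_comap_of_flat (β ⁻¹ᵁ R).ι hβ.1
    rw [← Scheme.IdealSheafData.comap_comp, ← morphismRestrict_ι, ← Y.homOfLE_ι hRΩ] at h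
    rwa [← Category.assoc, Scheme.IdealSheafData.comap_comp, hJΩ, Scheme.IdealSheafData.comap_comp,
      show j.ker.comap j = ⊥ from le_bot_iff.mp (Scheme.IdealSheafData.map_bot j ▸
        Scheme.IdealSheafData.comap_map_le ⊥ j), Scheme.IdealSheafData.comap_bot] at h
  have hpre : (β ≫ p) ⁻¹ᵁ V₀ = β ⁻¹ᵁ V := by
    refine le_antisymm (fun y hy => ?_) fun y hy => hVΩ hy
    by_contra hyV
    exact hR.elim ⟨y, hy, hyV⟩
  haveI := NagataCompLib.isIso_restrict_of_admissible hβ (⟨hJ, hJd⟩ : BlowUp.IsAdmissibleFor V J)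
  haveI : IsOpenImmersion ((β ≫ p) ∣_ V₀) := by
    haveI : IsOpenImmersion (((β ≫ p) ∣_ V₀) ≫ V₀.ι) := by
      rw [morphismRestrict_ι, show ((β ≫ p) ⁻¹ᵁ V₀).ι ≫ β ≫ p = (Y₁.isoOfEq hpre).hom ≫ (β ∣_ V) ≫ V.ι ≫ p by
        rw [morphismRestrict_ι_assoc, Scheme.isoOfEq_hom_ι_assoc]]
      infer_instance
    exact IsOpenImmersion.of_comp _ V₀.ι
  haveI : QuasiCompact (β ≫ p) := ⟨fun U hU hUc => NoetherianSpace.isCompact _⟩
  obtain ⟨K, Zt, c, Yt, o, z, hc, hK, ho, hoc, hz, hKz⟩ :=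
    NagataCompLib.exists_side (β ≫ p) V₀ (NoetherianSpace.isCompact _)
  rw [hpre] at hKz
  obtain ⟨M, hM, hzβ⟩ := RGFlatLib.exists_admissible_comp hβ ⟨hJ, hJd⟩ hz hKz
  exact ⟨M, K, Yt, Zt, z ≫ β, c, o, hzβ, hM, hc, hK, ho, by rw [hoc, Category.assoc]⟩

/-- Admissible blow-ups making a morphism essentially of finite type a localizing immersion. -/
theorem exists_blowUps_lift [IsNoetherian X] [IsNoetherian Y] [IsNoetherian Z] (f : X ⟶ Y) (g : Y ⟶ Z)
    [IsSeparated g] [EssFT.EssFiniteType g] (hf : LocImm.IsLocImmersion f) (hfg : LocImm.IsLocImmersion (f ≫ g)) :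
    ∃ (I : Y.IdealSheafData) (J : Z.IdealSheafData) (Yt Zt : Scheme.{u}) (b : Yt ⟶ Y) (c : Zt ⟶ Z) (g' : Yt ⟶ Zt)
      (u : X ⟶ Yt),
      IsNoetherian Yt ∧ IsNoetherian Zt ∧ IsProper b ∧ IsProper c ∧
      BlowUp.IsBlowUp b I ∧ Disjoint (I.support : Set Y) (Set.range f) ∧
      BlowUp.IsBlowUp c J ∧ Disjoint (J.support : Set Z) (Set.range (f ≫ g)) ∧
      LocImm.IsLocImmersion g' ∧ g' ≫ c = b ≫ g ∧ u ≫ b = f := by
  obtain ⟨W, k, p, _, hk, _, _, _, hkp⟩ := hasFactor g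
  subst hkp
  obtain ⟨V, hV, hVp⟩ := exists_openImmersion_nhd (f ≫ k) (comp hf hk) p (by rw [Category.assoc]; exact hfg)
  haveI := hVp
  obtain ⟨M, K, Wt, Zt, bl, c, o, hbl, hM, hc, hK, ho, hoc⟩ := exists_modify p V
  haveI := isNoetherian_of_isBlowUp hbl
  haveI := isNoetherian_of_isBlowUp hc
  haveI := BlowUpLib.isProper_of_isBlowUp hbl hM.1
  haveI := BlowUpLib.isProper_of_isBlowUp hc hK.1
  haveI := flat hk.1
  haveI : IsLocallyNoetherian (pullback k bl) := LocallyOfFiniteType.isLocallyNoetherian (pullback.fst k bl)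
  haveI : CompactSpace ↥(pullback k bl) := QuasiCompact.compactSpace_of_compactSpace (pullback.fst k bl)
  haveI : IsNoetherian (pullback k bl) := { }
  have hb : BlowUp.IsBlowUp (pullback.fst k bl) (M.comap k) :=
    BlowUpLib.isBlowUp_of_isPullback (IsPullback.of_hasPullback k bl).flip hbl
  have hd : Disjoint ((M.comap k).support : Set Y) (Set.range f) := by
    rw [Scheme.IdealSheafData.support_comap]
    refine Set.disjoint_left.mpr ?_
    rintro _ hy ⟨x, rfl⟩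
    exact Set.disjoint_left.mp hM.2 hy (hV ⟨x, rfl⟩)
  obtain ⟨u, hu⟩ := exists_lift hb f hd
  haveI := ho
  refine ⟨M.comap k, K, pullback k bl, Zt, pullback.fst k bl, c, pullback.snd k bl ≫ o, u, inferInstance,
    inferInstance, inferInstance, inferInstance, hb, hd, hc, ?_,
    comp (Groth.Agent.S18202.result k bl hk) (isLocImmersion_of_isOpenImmersion o), ?_, hu⟩
  · refine Set.disjoint_left.mpr ?_
    rintro _ hz ⟨x, rfl⟩
    exact Set.disjoint_left.mp hK.2 hz ⟨⟨k (f x), hV ⟨x, rfl⟩⟩, rfl⟩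
  · rw [Category.assoc, hoc, ← pullback.condition_assoc]

end Groth.Agent.LocImmLib
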