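import Groth.Agent.LocImmLib.Nhd
import Groth.Agent.RGFlatLib.GlueTwo
import Groth.Agent.NagataCompLib.Core

/-! Gluing two factorizations through localizing immersions. -/

universe u

open CategoryTheory CategoryTheory.Limits AlgebraicGeometry TopologicalSpace

namespace Groth.Agent.LocImmLib

/-- A point in the closure of an open set of a noetherian sober space generalizes to a point of the set. -/
theorem exists_specializes_of_mem_closure_open {E : Type u} [TopologicalSpace E] [NoetherianSpace E] [QuasiSober E]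
    {U : Set E} (hU : IsOpen U) {x : E} (hx : x ∈ closure U) : ∃ η ∈ U, η ⤳ x := by
  obtain ⟨T, hTf, hTc, hTi, hT⟩ := NoetherianSpace.exists_finite_set_isClosed_irreducible (isClosed_closure (s := U))
  have hfin : {K ∈ T | (K ∩ U).Nonempty}.Finite := hTf.subset fun K hK => hK.1
  have hsub : U ⊆ ⋃₀ {K ∈ T | (K ∩ U).Nonempty} := fun y hy => by
    obtain ⟨K, hK, hyK⟩ := hT ▸ subset_closure hy
    exact ⟨K, ⟨hK, y, hyK, hy⟩, hyK⟩
  obtain ⟨K, ⟨hK, hKU⟩, hxK⟩ := closure_minimal hsub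
    (Set.sUnion_eq_biUnion ▸ hfin.isClosed_biUnion fun K hK => hTc K hK.1) hx
  have hη : IsGenericPoint (hTi K hK).genericPoint K := (hTi K hK).isGenericPoint_genericPoint (hTc K hK)
  exact ⟨_, (hη.mem_open_set_iff hU).mpr hKU, hη.specializes hxK⟩

variable {X Y : Scheme.{u}}

/-- A morphism is localizing if it is so on an open cover of the source. -/
theorem isLocalizing_of_opens (k : X ⟶ Y) (h : ∀ x : X, ∃ U : X.Opens, x ∈ U ∧ LocImm.IsLocalizing (U.ι ≫ k)) :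
    LocImm.IsLocalizing k := by
  intro x
  obtain ⟨U, hxU, hU⟩ := h x
  obtain ⟨⟨A, hA⟩, ⟨V, hV⟩, hxV, e, hl⟩ := hU ⟨x, hxU⟩
  have e' : U.ι ''ᵁ V ≤ k ⁻¹ᵁ A := by
    rintro _ ⟨v, hv, rfl⟩
    exact e hv
  refine ⟨⟨A, hA⟩, ⟨U.ι ''ᵁ V, hV.image_of_isOpenImmersion _⟩, ⟨⟨x, hxU⟩, hxV, rfl⟩, e', ?_⟩
  have hc : (U.ι ≫ k).appLE A V e = k.appLE A (U.ι ''ᵁ V) e' ≫
      U.ι.appLE (U.ι ''ᵁ V) V (Scheme.Hom.preimage_image_eq U.ι V).ge :=
    (Scheme.Hom.appLE_comp_appLE U.ι k A (U.ι ''ᵁ V) V e' (Scheme.Hom.preimage_image_eq U.ι V).ge).symm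
  haveI : IsIso (U.ι.appLE (U.ι ''ᵁ V) V (Scheme.Hom.preimage_image_eq U.ι V).ge) := by
    haveI := Scheme.Hom.isIso_app U.ι (U.ι ''ᵁ V) (Scheme.Hom.image_le_opensRange U.ι V)
    show IsIso (U.ι.app (U.ι ''ᵁ V) ≫ (U : Scheme.{u}).presheaf.map (homOfLE _).op)
    haveI : IsIso ((U : Scheme.{u}).presheaf.map (homOfLE (Scheme.Hom.preimage_image_eq U.ι V).ge).op) := by
      rw [show (homOfLE (Scheme.Hom.preimage_image_eq U.ι V).ge).op =
        (eqToHom (Scheme.Hom.preimage_image_eq U.ι V).symm).op from Subsingleton.elim _ _]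
      infer_instance
    exact IsIso.comp_isIso
  change LocImm.IsLocHom (k.appLE A (U.ι ''ᵁ V) e').hom
  rw [show k.appLE A (U.ι ''ᵁ V) e' = (U.ι ≫ k).appLE A V e ≫
      inv (U.ι.appLE (U.ι ''ᵁ V) V (Scheme.Hom.preimage_image_eq U.ι V).ge) from by
    rw [IsIso.eq_comp_inv, hc], CommRingCat.hom_comp]
  exact isLocHom_comp hl (isLocHom_of_bijective _ ((ConcreteCategory.isIso_iff_bijective _).mp inferInstance))

/-- A localizing immersion has dense range in some neighbourhood of its image. -/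
theorem exists_nhd_dense [IsNoetherian X] [IsNoetherian Y] {k : X ⟶ Y} (hk : LocImm.IsLocImmersion k) :
    ∃ W : Y.Opens, Set.range k ⊆ W ∧ (W : Set Y) ⊆ closure (Set.range k) := by
  refine ⟨⟨interior (closure (Set.range k)), isOpen_interior⟩, fun y hy => ?_, interior_subset⟩
  show y ∈ interior (closure (Set.range k))
  rw [interior_eq_compl_closure_compl]
  intro hy'
  obtain ⟨η, hη, hs⟩ := exists_specializes_of_mem_closure_open isClosed_closure.isOpen_compl hy'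
  exact hη (subset_closure (stableUnderGeneralization_range hk.1 hs hy))

theorem isNoetherian_opens [IsNoetherian X] (U : X.Opens) : IsNoetherian (U : Scheme.{u}) :=
  haveI : CompactSpace U := isCompact_iff_compactSpace.mp (NoetherianSpace.isCompact _)
  haveI : IsLocallyNoetherian (U : Scheme.{u}) := isLocallyNoetherian_of_isOpenImmersion U.ι
  { }

/-- Two factorizations through localizing immersions into separated schemes of finite type glue. -/
theorem exists_factor_two {S : Scheme.{u}} [IsNoetherian X] [IsNoetherian S] (f : X ⟶ S) [IsSeparated f]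
    (U₁ U₂ : X.Opens) (hU : U₁ ⊔ U₂ = ⊤) {Y₁ Y₂ : Scheme.{u}} [IsNoetherian Y₁] [IsNoetherian Y₂]
    (k₁ : (U₁ : Scheme.{u}) ⟶ Y₁) (k₂ : (U₂ : Scheme.{u}) ⟶ Y₂) (p₁ : Y₁ ⟶ S) (p₂ : Y₂ ⟶ S)
    (hk₁ : LocImm.IsLocImmersion k₁) (hk₂ : LocImm.IsLocImmersion k₂)
    [IsSeparated p₁] [IsSeparated p₂] [LocallyOfFiniteType p₁] [LocallyOfFiniteType p₂]
    (h₁ : k₁ ≫ p₁ = U₁.ι ≫ f) (h₂ : k₂ ≫ p₂ = U₂.ι ≫ f) :
    ∃ (Y : Scheme.{u}) (k : X ⟶ Y) (p : Y ⟶ S), IsNoetherian Y ∧ LocImm.IsLocImmersion k ∧ IsSeparated p ∧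
      LocallyOfFiniteType p ∧ QuasiCompact p ∧ k ≫ p = f := by
  haveI := isNoetherian_opens U₁
  haveI := isNoetherian_opens U₂
  haveI := isNoetherian_opens (U₁ ⊓ U₂)
  haveI : QuasiCompact p₁ := ⟨fun U hU hUc => NoetherianSpace.isCompact _⟩
  haveI : QuasiCompact p₂ := ⟨fun U hU hUc => NoetherianSpace.isCompact _⟩
  let a₁ := X.homOfLE (inf_le_left : U₁ ⊓ U₂ ≤ U₁)
  let a₂ := X.homOfLE (inf_le_right : U₁ ⊓ U₂ ≤ U₂)
  have ha : a₁ ≫ U₁.ι = a₂ ≫ U₂.ι := by simp [a₁, a₂]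
  have hf₁ : LocImm.IsLocImmersion (a₁ ≫ k₁) := comp (isLocImmersion_of_isOpenImmersion a₁) hk₁
  have hf₂ : LocImm.IsLocImmersion (a₂ ≫ k₂) := comp (isLocImmersion_of_isOpenImmersion a₂) hk₂
  obtain ⟨W₀, k₀, g₁', g₂', _, hk₀, _, _, e₁', e₂', hπ'⟩ := exists_common_nhd (a₁ ≫ k₁) (a₂ ≫ k₂) p₁ p₂ hf₁ hf₂
    (by rw [Category.assoc, Category.assoc, h₁, h₂, reassoc_of% ha])
  obtain ⟨Wd, hWr, hWd⟩ := exists_nhd_dense hk₀
  obtain ⟨kW, hkW, hkWl⟩ := lift_opens hk₀ Wd hWr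
  haveI : IsNoetherian (Wd : Scheme.{u}) := isNoetherian_opens Wd
  let g₁ := Wd.ι ≫ g₁'
  let g₂ := Wd.ι ≫ g₂'
  have e₁ : kW ≫ g₁ = a₁ ≫ k₁ := by simp only [g₁]; rw [reassoc_of% hkW, e₁']
  have e₂ : kW ≫ g₂ = a₂ ≫ k₂ := by simp only [g₂]; rw [reassoc_of% hkW, e₂']
  have hπ : g₁ ≫ p₁ = g₂ ≫ p₂ := by simp only [g₁, g₂, Category.assoc, hπ']
  have hdense : DenseRange kW := fun w => by
    rw [Wd.ι.isOpenEmbedding.isInducing.closure_eq_preimage_closure_image]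
    show Wd.ι w ∈ closure (Wd.ι '' Set.range kW)
    rw [← Set.range_comp, ← TopCat.coe_comp, ← Scheme.Hom.comp_base, hkW]
    exact hWd w.2
  let g : (Wd : Scheme.{u}) ⟶ pullback p₁ p₂ := pullback.lift g₁ g₂ hπ
  haveI : IsLocallyNoetherian (pullback p₁ p₂) := LocallyOfFiniteType.isLocallyNoetherian (pullback.fst p₁ p₂)
  haveI : CompactSpace ↥(pullback p₁ p₂) := QuasiCompact.compactSpace_of_compactSpace (pullback.fst p₁ p₂)
  haveI : IsNoetherian (pullback p₁ p₂) := { }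
  -- the closure of the graph meets the product of the two pieces only over the overlap
  have key : ∀ e ∈ closure (Set.range g), ∀ a b, pullback.fst p₁ p₂ e = k₁ a → pullback.snd p₁ p₂ e = k₂ b →
      ∃ u, a₁ u = a ∧ a₂ u = b := by
    intro e he a b hea heb
    haveI := isPreimmersion hk₁
    haveI := isPreimmersion hk₂
    let m : pullback (U₁.ι ≫ f) (U₂.ι ≫ f) ⟶ pullback p₁ p₂ :=
      pullback.map _ _ p₁ p₂ k₁ k₂ (𝟙 S) (by simp [h₁]) (by simp [h₂])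
    haveI : IsPreimmersion m := by
      simp only [m, pullback_map_eq_pullbackFstFstIso_inv]
      infer_instance
    obtain ⟨q, hq⟩ : e ∈ Set.range m := by
      rw [Scheme.Pullback.range_map]
      exact ⟨⟨a, hea.symm⟩, ⟨b, heb.symm⟩⟩
    let δ' : ((U₁ ⊓ U₂ : X.Opens) : Scheme.{u}) ⟶ pullback U₁.ι U₂.ι := pullback.lift a₁ a₂ ha
    let δ := δ' ≫ pullback.mapDesc U₁.ι U₂.ι f
    have hδs : Function.Surjective δ' := fun z => by
      have hz : (pullback.fst U₁.ι U₂.ι z).1 = (pullback.snd U₁.ι U₂.ι z).1 :=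
        congr($(pullback.condition (f := U₁.ι) (g := U₂.ι)) z)
      refine ⟨⟨(pullback.fst U₁.ι U₂.ι z).1, (pullback.fst U₁.ι U₂.ι z).2, hz ▸ (pullback.snd U₁.ι U₂.ι z).2⟩, ?_⟩
      refine (pullback.fst U₁.ι U₂.ι).isOpenEmbedding.injective ?_
      rw [← Scheme.Hom.comp_apply, pullback.lift_fst]
      apply Subtype.ext
      exact Scheme.homOfLE_apply _ _
    have hδc : IsClosed (Set.range δ) := by
      have : Set.range δ = Set.range (pullback.mapDesc U₁.ι U₂.ι f) := by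
        rw [Scheme.Hom.comp_base, TopCat.coe_comp, Set.range_comp, hδs.range_eq, Set.image_univ]
      rw [this]
      exact (pullback.mapDesc U₁.ι U₂.ι f).isClosedEmbedding.isClosed_range
    have hδm : δ ≫ m = kW ≫ g := by
      apply pullback.hom_ext
      · simp only [δ, δ', m, g, pullback.map, Category.assoc, pullback.lift_fst, pullback.lift_fst_assoc,
          Category.comp_id, e₁, Category.id_comp]
      · simp only [δ, δ', m, g, pullback.map, Category.assoc, pullback.lift_snd, pullback.lift_snd_assoc,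
          Category.comp_id, e₂, Category.id_comp]
    have hq' : q ∈ closure (Set.range δ) := by
      rw [m.isEmbedding.isInducing.closure_eq_preimage_closure_image, Set.mem_preimage, hq,
        ← Set.range_comp, ← TopCat.coe_comp, ← Scheme.Hom.comp_base, hδm, Scheme.Hom.comp_base, TopCat.coe_comp,
        Set.range_comp]
      refine closure_minimal ?_ isClosed_closure he
      rintro _ ⟨w, rfl⟩
      exact image_closure_subset_closure_image g.continuous ⟨w, hdense w, rfl⟩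
    obtain ⟨u, hu⟩ := hδc.closure_eq ▸ hq'
    refine ⟨u, k₁.isEmbedding.injective ?_, k₂.isEmbedding.injective ?_⟩
    · rw [← hea, ← hq, ← hu]
      simp only [← Scheme.Hom.comp_apply]
      rw [Category.assoc, reassoc_of% hδm, pullback.lift_fst, e₁]
    · rw [← heb, ← hq, ← hu]
      simp only [← Scheme.Hom.comp_apply]
      rw [Category.assoc, reassoc_of% hδm, pullback.lift_snd, e₂]
  let D : Set ↥(pullback p₁ p₂) := closure (Set.range g) ∩ (pullback.fst p₁ p₂ ⁻¹' Set.range g₁)ᶜ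
  obtain ⟨VA, VB, hV₁, hV₂, hV⟩ := exists_nhds_avoid (D := D)
    (isClosed_closure.inter (g₁.isOpenEmbedding.isOpen_range.preimage
      (pullback.fst p₁ p₂).continuous).isClosed_compl)
    _ _ (pullback.fst p₁ p₂).continuous (pullback.snd p₁ p₂).continuous
    (stableUnderGeneralization_range hk₁.1) (stableUnderGeneralization_range hk₂.1) (by
      rintro e ⟨he, he'⟩ ⟨a, ha'⟩ ⟨b, hb'⟩
      obtain ⟨u, hu₁, -⟩ := key e he a b ha'.symm hb'.symm
      refine he' ⟨kW u, ?_⟩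
      rw [← ha', ← hu₁, ← Scheme.Hom.comp_apply, ← Scheme.Hom.comp_apply, e₁])
  let V₁ : Y₁.Opens := VA
  let V₂ : Y₂.Opens := VB
  let W' : (Wd : Scheme.{u}).Opens := g₁ ⁻¹ᵁ V₁ ⊓ g₂ ⁻¹ᵁ V₂
  obtain ⟨l₁, hl₁, hll₁⟩ := lift_opens hk₁ V₁ hV₁
  obtain ⟨l₂, hl₂, hll₂⟩ := lift_opens hk₂ V₂ hV₂
  have hkW' : Set.range kW ⊆ W' := by
    rintro _ ⟨u, rfl⟩
    refine ⟨?_, ?_⟩
    · show g₁ (kW u) ∈ V₁
      rw [← Scheme.Hom.comp_apply, e₁]
      exact hV₁ ⟨a₁ u, rfl⟩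
    · show g₂ (kW u) ∈ V₂
      rw [← Scheme.Hom.comp_apply, e₂]
      exact hV₂ ⟨a₂ u, rfl⟩
  obtain ⟨kW', hkW'₁, -⟩ := lift_opens hkWl W' hkW'
  let j₁ : (W' : Scheme.{u}) ⟶ V₁ := IsOpenImmersion.lift V₁.ι (W'.ι ≫ g₁)
    (by rw [Scheme.Opens.range_ι]; rintro _ ⟨w, rfl⟩; exact w.2.1)
  let j₂ : (W' : Scheme.{u}) ⟶ V₂ := IsOpenImmersion.lift V₂.ι (W'.ι ≫ g₂)
    (by rw [Scheme.Opens.range_ι]; rintro _ ⟨w, rfl⟩; exact w.2.2)
  have hj₁ : j₁ ≫ V₁.ι = W'.ι ≫ g₁ := IsOpenImmersion.lift_fac _ _ _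
  have hj₂ : j₂ ≫ V₂.ι = W'.ι ≫ g₂ := IsOpenImmersion.lift_fac _ _ _
  haveI : IsOpenImmersion j₁ := by
    haveI : IsOpenImmersion (j₁ ≫ V₁.ι) := by rw [hj₁]; infer_instance
    exact IsOpenImmersion.of_comp j₁ V₁.ι
  haveI : IsOpenImmersion j₂ := by
    haveI : IsOpenImmersion (j₂ ≫ V₂.ι) := by rw [hj₂]; infer_instance
    exact IsOpenImmersion.of_comp j₂ V₂.ι
  have hw : j₁ ≫ V₁.ι ≫ p₁ = j₂ ≫ V₂.ι ≫ p₂ := by
    rw [reassoc_of% hj₁, reassoc_of% hj₂, hπ]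
  haveI := isNoetherian_opens V₁
  haveI := isNoetherian_opens V₂
  haveI : QuasiCompact (V₁.ι ≫ p₁) := ⟨fun U hU hUc => NoetherianSpace.isCompact _⟩
  haveI : QuasiCompact (V₂.ι ≫ p₂) := ⟨fun U hU hUc => NoetherianSpace.isCompact _⟩
  let T : (W' : Scheme.{u}) ⟶ pullback (V₁.ι ≫ p₁) (V₂.ι ≫ p₂) := pullback.lift j₁ j₂ hw
  haveI : IsClosedImmersion T := by
    haveI : IsPreimmersion (T ≫ pullback.fst _ _) := by rw [pullback.lift_fst]; infer_instance
    haveI : IsPreimmersion T := by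
      haveI : IsImmersion T := by
        haveI : IsImmersion (T ≫ pullback.fst _ _) := by rw [pullback.lift_fst]; infer_instance
        exact IsImmersion.of_comp T (pullback.fst _ _)
      infer_instance
    refine IsClosedImmersion.of_isPreimmersion T (isClosed_of_closure_subset fun t ht => ?_)
    let mV : pullback (V₁.ι ≫ p₁) (V₂.ι ≫ p₂) ⟶ pullback p₁ p₂ :=
      pullback.map _ _ p₁ p₂ V₁.ι V₂.ι (𝟙 S) (by simp) (by simp)
    haveI : IsOpenImmersion mV := inferInstance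
    have hTm : T ≫ mV = W'.ι ≫ g := by
      apply pullback.hom_ext
      · simp only [T, mV, g, pullback.map, Category.assoc, pullback.lift_fst, pullback.lift_fst_assoc, hj₁]
      · simp only [T, mV, g, pullback.map, Category.assoc, pullback.lift_snd, pullback.lift_snd_assoc, hj₂]
    have he : mV t ∈ closure (Set.range g) := by
      refine closure_mono ?_ (image_closure_subset_closure_image mV.continuous ⟨t, ht, rfl⟩)
      rintro _ ⟨_, ⟨w, rfl⟩, rfl⟩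
      exact ⟨W'.ι w, by rw [← Scheme.Hom.comp_apply, ← hTm, Scheme.Hom.comp_apply]⟩
    have hm1 : pullback.fst p₁ p₂ (mV t) ∈ V₁ := by
      rw [← Scheme.Hom.comp_apply, pullback.lift_fst, Scheme.Hom.comp_apply]
      exact (pullback.fst (V₁.ι ≫ p₁) (V₂.ι ≫ p₂) t).2
    have hm2 : pullback.snd p₁ p₂ (mV t) ∈ V₂ := by
      rw [← Scheme.Hom.comp_apply, pullback.lift_snd, Scheme.Hom.comp_apply]
      exact (pullback.snd (V₁.ι ≫ p₁) (V₂.ι ≫ p₂) t).2
    have hin : pullback.fst p₁ p₂ (mV t) ∈ Set.range g₁ := by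
      by_contra hc
      exact hV _ ⟨he, hc⟩ hm1 hm2
    let sec : (Wd : Scheme.{u}) ⟶ pullback (g₂ ≫ p₂) p₂ := pullback.lift (𝟙 _) g₂ (Category.id_comp _)
    let m' : pullback (g₂ ≫ p₂) p₂ ⟶ pullback p₁ p₂ :=
      pullback.map _ _ p₁ p₂ g₁ (𝟙 _) (𝟙 S) (by simp [hπ]) (by simp)
    haveI : IsOpenImmersion m' := inferInstance
    have hsm : sec ≫ m' = g := by
      apply pullback.hom_ext
      · simp only [sec, m', g, pullback.map, Category.assoc, pullback.lift_fst, pullback.lift_fst_assoc, Category.id_comp]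
      · simp only [sec, m', g, pullback.map, Category.assoc, pullback.lift_snd, pullback.lift_snd_assoc, Category.comp_id]
    obtain ⟨y, hy⟩ : mV t ∈ Set.range m' := by
      rw [Scheme.Pullback.range_map]
      exact ⟨hin, pullback.snd p₁ p₂ (mV t), rfl⟩
    have hy' : y ∈ closure (Set.range sec) := by
      rw [m'.isOpenEmbedding.isInducing.closure_eq_preimage_closure_image, Set.mem_preimage, hy,
        ← Set.range_comp, ← TopCat.coe_comp, ← Scheme.Hom.comp_base, hsm]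
      exact he
    obtain ⟨w, hw'⟩ := sec.isClosedEmbedding.isClosed_range.closure_eq ▸ hy'
    have hgw : g w = mV t := by rw [← hsm, Scheme.Hom.comp_apply, hw', hy]
    have hwW : w ∈ W' := by
      refine ⟨?_, ?_⟩
      · show g₁ w ∈ V₁
        rwa [← pullback.lift_fst g₁ g₂ hπ, Scheme.Hom.comp_apply, hgw]
      · show g₂ w ∈ V₂
        rwa [← pullback.lift_snd g₁ g₂ hπ, Scheme.Hom.comp_apply, hgw]
    refine ⟨⟨w, hwW⟩, mV.isOpenEmbedding.injective ?_⟩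
    rw [← Scheme.Hom.comp_apply, hTm, Scheme.Hom.comp_apply]
    exact hgw
  obtain ⟨Y, q, o₁, o₂, _, _, _, _, _, hq₁, hq₂, hko, hpb⟩ :=
    RGFlatLib.exists_glue_two j₁ j₂ (V₁.ι ≫ p₁) (V₂.ι ≫ p₂) hw
  have c₁ : a₁ ≫ l₁ = kW' ≫ j₁ := by
    rw [← cancel_mono V₁.ι, Category.assoc, hl₁, Category.assoc, hj₁, reassoc_of% hkW'₁, e₁]
  have c₂ : a₂ ≫ l₂ = kW' ≫ j₂ := by
    rw [← cancel_mono V₂.ι, Category.assoc, hl₂, Category.assoc, hj₂, reassoc_of% hkW'₁, e₂]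
  obtain ⟨k, hk₁', hk₂'⟩ := NagataCompLib.exists_desc_two hU (l₁ ≫ o₁) (l₂ ≫ o₂) (by
    rw [reassoc_of% c₁, reassoc_of% c₂, hko])
  haveI : IsLocallyNoetherian Y := LocallyOfFiniteType.isLocallyNoetherian q
  haveI : CompactSpace Y := QuasiCompact.compactSpace_of_compactSpace q
  have hlo₁ : LocImm.IsLocImmersion (l₁ ≫ o₁) := comp hll₁ (isLocImmersion_of_isOpenImmersion o₁)
  have hlo₂ : LocImm.IsLocImmersion (l₂ ≫ o₂) := comp hll₂ (isLocImmersion_of_isOpenImmersion o₂)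
  have cross : ∀ (a : U₁) (b : U₂), o₁ (l₁ a) = o₂ (l₂ b) → a.1 = b.1 := by
    intro a b hab
    obtain ⟨z, hz₁, hz₂⟩ := Scheme.Pullback.exists_preimage_pullback (f := o₁) (g := o₂) (l₁ a) (l₂ b) hab
    have hw₁ : j₁ (hpb.isoPullback.inv z) = l₁ a := by
      rw [← Scheme.Hom.comp_apply, hpb.isoPullback_inv_fst, hz₁]
    have hw₂ : j₂ (hpb.isoPullback.inv z) = l₂ b := by
      rw [← Scheme.Hom.comp_apply, hpb.isoPullback_inv_snd, hz₂]
    generalize hpb.isoPullback.inv z = w at hw₁ hw₂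
    obtain ⟨u, hua, hub⟩ := key (g (W'.ι w)) (subset_closure ⟨_, rfl⟩) a b
      (by rw [← hl₁, Scheme.Hom.comp_apply, ← hw₁, ← Scheme.Hom.comp_apply, ← Scheme.Hom.comp_apply,
        ← Scheme.Hom.comp_apply, hj₁, pullback.lift_fst])
      (by rw [← hl₂, Scheme.Hom.comp_apply, ← hw₂, ← Scheme.Hom.comp_apply, ← Scheme.Hom.comp_apply,
        ← Scheme.Hom.comp_apply, hj₂, pullback.lift_snd])
    rw [← hua, ← hub]
    exact congr($ha u)
  refine ⟨Y, k, q, { }, ⟨isLocalizing_of_opens k fun x => ?_, fun x y hxy => ?_⟩, ‹_›, ‹_›, ‹_›, ?_⟩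
  · rcases (show x ∈ U₁ ∨ x ∈ U₂ from (show x ∈ U₁ ⊔ U₂ from hU ▸ trivial)) with hx | hx
    · exact ⟨U₁, hx, hk₁' ▸ hlo₁.1⟩
    · exact ⟨U₂, hx, hk₂' ▸ hlo₂.1⟩
  · have hx := (show x ∈ U₁ ∨ x ∈ U₂ from (show x ∈ U₁ ⊔ U₂ from hU ▸ trivial))
    have hy := (show y ∈ U₁ ∨ y ∈ U₂ from (show y ∈ U₁ ⊔ U₂ from hU ▸ trivial))
    have v₁ : ∀ z : U₁, k z.1 = o₁ (l₁ z) := fun z => congr($hk₁' z)
    have v₂ : ∀ z : U₂, k z.1 = o₂ (l₂ z) := fun z => congr($hk₂' z)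
    change k x = k y at hxy
    rcases hx with hx | hx <;> rcases hy with hy | hy
    · exact congrArg Subtype.val (hlo₁.2 (a₁ := ⟨x, hx⟩) (a₂ := ⟨y, hy⟩)
        ((v₁ ⟨x, hx⟩).symm.trans (hxy.trans (v₁ ⟨y, hy⟩))))
    · exact cross ⟨x, hx⟩ ⟨y, hy⟩ ((v₁ ⟨x, hx⟩).symm.trans (hxy.trans (v₂ ⟨y, hy⟩)))
    · exact (cross ⟨y, hy⟩ ⟨x, hx⟩ ((v₁ ⟨y, hy⟩).symm.trans (hxy.symm.trans (v₂ ⟨x, hx⟩)))).symm
    · exact congrArg Subtype.val (hlo₂.2 (a₁ := ⟨x, hx⟩) (a₂ := ⟨y, hy⟩)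
        ((v₂ ⟨x, hx⟩).symm.trans (hxy.trans (v₂ ⟨y, hy⟩))))
  · refine NagataCompLib.hom_ext_two hU ?_ ?_
    · rw [reassoc_of% hk₁', hq₁, reassoc_of% hl₁, h₁]
    · rw [reassoc_of% hk₂', hq₂, reassoc_of% hl₂, h₂]

end Groth.Agent.LocImmLib
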