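import Groth.Agent.LocImmLib.Modify
import Groth.Agent.BlowUpLib.Strict
import Groth.Agent.FlatLib.SchemeFlat
import Groth.Agent.UOpenLib.Criterion

/-! Extensions of morphisms defined on a localizing immersion after admissible blow-ups. -/

universe u

open CategoryTheory CategoryTheory.Limits AlgebraicGeometry TopologicalSpace

namespace Groth.Agent.LocImmLib

variable {X Y Z S : Scheme.{u}}

/-- A morphism through which a monomorphism factors is a base change of the composite. -/
theorem isPullback_of_mono (f : X ⟶ Y) (g : Y ⟶ Z) [Mono g] : IsPullback (𝟙 X) f (f ≫ g) g :=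
  ⟨⟨Category.id_comp _⟩, ⟨PullbackCone.IsLimit.mk _ (fun c => c.fst) (fun c => Category.comp_id _)
    (fun c => by rw [← cancel_mono g, Category.assoc]; exact c.condition)
    (fun c m h _ => by simpa using h)⟩⟩

theorem flat_fromSpecStalk_comp_iff [IsNoetherian Y] (f : X ⟶ Y) (x : X) :
    Flat (X.fromSpecStalk x ≫ f) ↔ (f.stalkMap x).hom.Flat := by
  haveI := flat (isLocImmersion_fromSpecStalk (f x)).1
  rw [← Scheme.SpecMap_stalkMap_fromSpecStalk, ← Flat.SpecMap_iff]
  refine ⟨fun h => MorphismProperty.of_isPullback (P := @Flat) (isPullback_of_mono _ _) h, fun h => ?_⟩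
  haveI := h
  infer_instance

theorem isLocallyNoetherian_of_essFiniteType [IsLocallyNoetherian Y] (f : X ⟶ Y)
    (hf : EssFT.LocallyEssFiniteType f) : IsLocallyNoetherian X := by
  choose U V hx e he using hf.exists_appLE_essFiniteType
  refine (isLocallyNoetherian_iff_of_iSup_eq_top (S := V)
    (eq_top_iff.mpr fun x _ => Opens.mem_iSup.mpr ⟨x, hx x⟩)).mpr fun x => ?_
  haveI := IsLocallyNoetherian.component_noetherian (U x)
  let := (f.appLE (U x).1 (V x).1 (e x)).hom.toAlgebra
  haveI : Algebra.EssFiniteType Γ(Y, (U x).1) Γ(X, (V x).1) := he x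
  exact Algebra.EssFiniteType.isNoetherianRing Γ(Y, (U x).1) Γ(X, (V x).1)

theorem isLocallyEssFiniteType_snd (f : X ⟶ S) (g : Y ⟶ S) (hf : EssFT.LocallyEssFiniteType f) :
    EssFT.LocallyEssFiniteType (pullback.snd f g) := by
  haveI : MorphismProperty.IsStableUnderBaseChange @EssFT.LocallyEssFiniteType :=
    HasRingHomProperty.isStableUnderBaseChange (RingHom.locally_isStableUnderBaseChange
      RingHom.EssFiniteType.respectsIso RingHom.EssFiniteType.isStableUnderBaseChange)
  exact MorphismProperty.pullback_snd f g hf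

theorem isLocallyEssFiniteType_fst (f : X ⟶ S) (g : Y ⟶ S) (hg : EssFT.LocallyEssFiniteType g) :
    EssFT.LocallyEssFiniteType (pullback.fst f g) := by
  haveI : MorphismProperty.IsStableUnderBaseChange @EssFT.LocallyEssFiniteType :=
    HasRingHomProperty.isStableUnderBaseChange (RingHom.locally_isStableUnderBaseChange
      RingHom.EssFiniteType.respectsIso RingHom.EssFiniteType.isStableUnderBaseChange)
  exact MorphismProperty.pullback_fst f g hg

/-- The preimage in a blow-up of a dense set off the centre is dense. -/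
theorem dense_preimage_blowUp {b : X ⟶ Y} {I : Y.IdealSheafData} (hb : BlowUp.IsBlowUp b I) {A : Set Y}
    (hA : Dense A) (hd : Disjoint (I.support : Set Y) A) : Dense (b ⁻¹' A) := by
  let U : Y.Opens := I.support.compl
  haveI : IsIso (b ∣_ U) := EffCartLib.isIso_off_center I b hb U le_rfl
  have hV : Dense ((b ⁻¹ᵁ U : X.Opens) : Set X) := by
    have := ModPairLib.isAffineHom_interior hb.1
    have := ModPairLib.isDominant_interior hb.1
    have h2 : Dense (Set.range (ModPair.interior (I.comap b)).ι) :=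
      ((ModPair.interior (I.comap b)).ι).denseRange
    rw [Scheme.Opens.range_ι, ModPairLib.interior_comap] at h2
    exact h2
  rw [dense_iff_inter_open]
  intro O hO hne
  obtain ⟨x, hxO, hxV⟩ := dense_iff_inter_open.mp hV O hO hne
  have hopen : IsOpen (⇑((b ⁻¹ᵁ U).ι ≫ b) '' (⇑(b ⁻¹ᵁ U).ι ⁻¹' O)) := by
    haveI : IsOpenImmersion ((b ⁻¹ᵁ U).ι ≫ b) := by rw [← morphismRestrict_ι]; infer_instance
    exact ((b ⁻¹ᵁ U).ι ≫ b).isOpenEmbedding.isOpenMap _ (hO.preimage (b ⁻¹ᵁ U).ι.continuous)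
  obtain ⟨_, ⟨z, hzO, rfl⟩, hzA⟩ := dense_iff_inter_open.mp hA _ hopen ⟨_, ⟨x, hxV⟩, hxO, rfl⟩
  exact ⟨z.1, hzO, hzA⟩

/-- A proper lift with dense image is an isomorphism after admissible blow-ups. -/
theorem exists_blowUps_isIso [IsNoetherian X] [IsNoetherian Y] [IsNoetherian Z] (f : X ⟶ Y) (g : Y ⟶ Z)
    [IsProper g] (hf : LocImm.IsLocImmersion f) (hfg : LocImm.IsLocImmersion (f ≫ g))
    (hd : Dense (Set.range (f ≫ g))) :
    ∃ (I : Y.IdealSheafData) (J : Z.IdealSheafData) (Yt Zt : Scheme.{u}) (b : Yt ⟶ Y) (c : Zt ⟶ Z) (g' : Yt ⟶ Zt)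
      (u : X ⟶ Yt),
      IsNoetherian Yt ∧ IsNoetherian Zt ∧
      BlowUp.IsBlowUp b I ∧ Disjoint (I.support : Set Y) (Set.range f) ∧
      BlowUp.IsBlowUp c J ∧ Disjoint (J.support : Set Z) (Set.range (f ≫ g)) ∧
      IsIso g' ∧ g' ≫ c = b ≫ g ∧ u ≫ b = f := by
  haveI : EssFT.EssFiniteType g :=
    { toLocallyEssFiniteType := isLocallyEssFiniteType_of_locallyOfFiniteType g, toQuasiCompact := inferInstance }
  obtain ⟨I, J, Yt, Zt, b, c, g', u, _, _, _, _, hb, hdI, hc, hdJ, hg', hgc, hu⟩ := exists_blowUps_lift f g hf hfg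
  refine ⟨I, J, Yt, Zt, b, c, g', u, ‹_›, ‹_›, hb, hdI, hc, hdJ, ?_, hgc, hu⟩
  haveI : IsProper (g' ≫ c) := by rw [hgc]; infer_instance
  haveI : IsProper g' := .of_comp g' c
  have hcl : IsClosed (Set.range g') := by
    rw [← Set.image_univ]
    exact g'.isClosedMap _ isClosed_univ
  haveI : IsOpenImmersion g' := Groth.Agent.S18205.result g' hg' hcl
  let U : Z.Opens := J.support.compl
  haveI : IsIso (c ∣_ U) := EffCartLib.isIso_off_center J c hc U le_rfl
  have hsub : c ⁻¹' Set.range (f ≫ g) ⊆ Set.range g' := by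
    rintro z ⟨x, hx⟩
    have hU : c z ∈ U := fun h => Set.disjoint_left.mp hdJ h ⟨x, hx⟩
    have hg : c (g' (u x)) = c z := by
      rw [← hx, ← Scheme.Hom.comp_apply, ← Scheme.Hom.comp_apply, hgc, reassoc_of% hu]
    exact ⟨u x, congrArg Subtype.val ((c ∣_ U).homeomorph.injective (a₁ := ⟨g' (u x), show c _ ∈ U from hg ▸ hU⟩)
      (a₂ := ⟨z, hU⟩) (Subtype.ext (by
        rw [Scheme.Hom.homeomorph_apply, Scheme.Hom.homeomorph_apply, morphismRestrict_base_coe,
          morphismRestrict_base_coe]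
        exact hg)))⟩
  haveI : Surjective g' := ⟨fun z => hcl.closure_eq.le
    (closure_mono hsub ((dense_preimage_blowUp hc hd hdJ) z))⟩
  haveI : Epi g'.base := (TopCat.epi_iff_surjective _).mpr g'.surjective
  exact IsOpenImmersion.isIso g'

variable [IsNoetherian S] [IsNoetherian X] [IsNoetherian Y] [IsNoetherian Z]

/-- The scheme theoretic closure of the graph of a morphism on a localizing immersion. -/
theorem exists_graph (a : X ⟶ S) (b : Y ⟶ S) [IsSeparated b] (hb : EssFT.LocallyEssFiniteType b) [QuasiCompact b]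
    (j : Z ⟶ X) (hj : LocImm.IsLocImmersion j) (f : Z ⟶ Y) (hjf : j ≫ a = f ≫ b) :
    ∃ (G : Scheme.{u}) (i : G ⟶ pullback a b) (t : Z ⟶ G), IsNoetherian G ∧ IsClosedImmersion i ∧
      LocImm.IsLocImmersion t ∧ t ≫ i ≫ pullback.fst a b = j ∧ t ≫ i ≫ pullback.snd a b = f ∧
      EssFT.EssFiniteType (i ≫ pullback.fst a b) := by
  let σ : Z ⟶ pullback a b := pullback.lift j f hjf
  haveI : IsLocallyNoetherian (pullback a b) :=
    isLocallyNoetherian_of_essFiniteType (pullback.fst a b) (isLocallyEssFiniteType_fst a b hb)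
  haveI : CompactSpace ↥(pullback a b) := QuasiCompact.compactSpace_of_compactSpace (pullback.fst a b)
  haveI : IsNoetherian (pullback a b) := { }
  haveI : QuasiCompact σ := ⟨fun U hU hUc => NoetherianSpace.isCompact _⟩
  haveI : IsLocallyNoetherian σ.image := LocallyOfFiniteType.isLocallyNoetherian σ.imageι
  haveI : CompactSpace σ.image := QuasiCompact.compactSpace_of_compactSpace σ.imageι
  haveI : IsNoetherian σ.image := { }
  have e₁ : σ.toImage ≫ σ.imageι ≫ pullback.fst a b = j := by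
    rw [Scheme.Hom.toImage_imageι_assoc, pullback.lift_fst]
  refine ⟨σ.image, σ.imageι, σ.toImage, inferInstance, inferInstance, ?_, e₁,
    by rw [Scheme.Hom.toImage_imageι_assoc, pullback.lift_snd],
    { toLocallyEssFiniteType := isLocallyEssFiniteType_comp _ _
        (isLocallyEssFiniteType_of_locallyOfFiniteType _) (isLocallyEssFiniteType_fst a b hb)
      toQuasiCompact := inferInstance }⟩
  exact Groth.Agent.S18195.result σ.toImage (σ.imageι ≫ pullback.fst a b) (e₁.symm ▸ hj) fun U =>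
    TopCat.Presheaf.app_injective_of_stalkFunctor_map_injective (F := σ.image.sheaf) σ.toImage.c U
      fun x _ => σ.stalkFunctor_toImage_injective x

/-- A morphism on a localizing immersion extends with closed graph after an admissible blow-up. -/
theorem exists_extension_graph (a : X ⟶ S) (b : Y ⟶ S) [IsSeparated b] [EssFT.EssFiniteType b]
    (j : Z ⟶ X) (hj : LocImm.IsLocImmersion j) (f : Z ⟶ Y) (hjf : j ≫ a = f ≫ b) :
    ∃ (𝓘 : X.IdealSheafData) (Xt Z' : Scheme.{u}) (c : Xt ⟶ X) (j' : Z' ⟶ Xt) (e : Z ⟶ Z') (f' : Z' ⟶ Y)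
      (h : j' ≫ (c ≫ a) = f' ≫ b),
      BlowUp.IsBlowUp c 𝓘 ∧ Disjoint (𝓘.support : Set X) (Set.range j) ∧
      LocImm.IsLocImmersion j' ∧ e ≫ j' ≫ c = j ∧ e ≫ f' = f ∧
      IsClosedImmersion (pullback.lift j' f' h) := by
  obtain ⟨G, i, t, _, _, ht, h₁, h₂, _⟩ :=
    exists_graph a b (EssFT.EssFiniteType.toLocallyEssFiniteType) j hj f hjf
  obtain ⟨I, J, Gt, Xt, bG, c, g', u, _, _, _, _, -, -, hc, hdJ, hg', hgc, hu⟩ :=
    exists_blowUps_lift t (i ≫ pullback.fst a b) ht (h₁.symm ▸ hj)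
  have hw : g' ≫ (c ≫ a) = (bG ≫ i ≫ pullback.snd a b) ≫ b := by
    rw [reassoc_of% hgc]
    simp only [Category.assoc, pullback.condition]
  rw [h₁] at hdJ
  refine ⟨J, Xt, Gt, c, g', u, bG ≫ i ≫ pullback.snd a b, hw, hc, hdJ, hg', ?_, ?_, ?_⟩
  · rw [hgc, reassoc_of% hu, h₁]
  · rw [reassoc_of% hu, h₂]
  · let m : pullback (c ≫ a) b ⟶ pullback a b :=
      pullback.map _ _ _ _ c (𝟙 Y) (𝟙 S) (by simp) (by simp)
    haveI : IsSeparated m := by
      haveI : IsSeparated (m ≫ pullback.fst a b) := by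
        rw [pullback.lift_fst]; infer_instance
      exact IsSeparated.of_comp m (pullback.fst a b)
    haveI : IsProper (pullback.lift g' (bG ≫ i ≫ pullback.snd a b) hw ≫ m) := by
      rw [show pullback.lift g' (bG ≫ i ≫ pullback.snd a b) hw ≫ m = bG ≫ i from pullback.hom_ext
        (by rw [Category.assoc, pullback.lift_fst, pullback.lift_fst_assoc, hgc, Category.assoc])
        (by rw [Category.assoc, pullback.lift_snd, pullback.lift_snd_assoc, Category.comp_id, Category.assoc])]
      infer_instance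
    haveI : IsProper (pullback.lift g' (bG ≫ i ≫ pullback.snd a b) hw) := IsProper.of_comp _ m
    haveI := isPreimmersion hg'
    haveI : Mono (pullback.lift g' (bG ≫ i ≫ pullback.snd a b) hw) := by
      haveI : Mono (pullback.lift g' (bG ≫ i ≫ pullback.snd a b) hw ≫ pullback.fst (c ≫ a) b) := by
        rw [pullback.lift_fst]; infer_instance
      exact mono_of_mono _ (pullback.fst (c ≫ a) b)
    exact (IsClosedImmersion.iff_isProper_and_mono _).mpr ⟨inferInstance, inferInstance⟩

/-- A morphism to a proper scheme on a dense localizing immersion extends after an admissible blow-up. -/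
theorem exists_extension_proper (a : X ⟶ S) (b : Y ⟶ S) [IsProper b]
    (j : Z ⟶ X) (hj : LocImm.IsLocImmersion j) (hjd : Dense (Set.range j)) (f : Z ⟶ Y) (hjf : j ≫ a = f ≫ b) :
    ∃ (𝓘 : X.IdealSheafData) (Xt : Scheme.{u}) (c : Xt ⟶ X) (e : Z ⟶ Xt) (f' : Xt ⟶ Y),
      BlowUp.IsBlowUp c 𝓘 ∧ Disjoint (𝓘.support : Set X) (Set.range j) ∧
      e ≫ c = j ∧ e ≫ f' = f ∧ c ≫ a = f' ≫ b := by
  obtain ⟨G, i, t, _, _, ht, h₁, h₂, _⟩ :=
    exists_graph a b (isLocallyEssFiniteType_of_locallyOfFiniteType b) j hj f hjf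
  obtain ⟨I, J, Gt, Xt, bG, c, g', u, _, _, -, -, hc, hdJ, _, hgc, hu⟩ :=
    exists_blowUps_isIso t (i ≫ pullback.fst a b) ht (h₁.symm ▸ hj) (h₁.symm ▸ hjd)
  rw [h₁] at hdJ
  refine ⟨J, Xt, c, u ≫ g', inv g' ≫ bG ≫ i ≫ pullback.snd a b, hc, hdJ, ?_, ?_, ?_⟩
  · rw [Category.assoc, hgc, reassoc_of% hu, h₁]
  · rw [Category.assoc, IsIso.hom_inv_id_assoc, reassoc_of% hu, h₂]
  · rw [← cancel_epi g', reassoc_of% hgc]
    simp only [Category.assoc, IsIso.hom_inv_id_assoc, pullback.condition]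

omit [AlgebraicGeometry.IsNoetherian S] [AlgebraicGeometry.IsNoetherian Z] in
/-- The flat locus of a morphism essentially of finite type. -/
theorem flat_locus_and_factor (f : X ⟶ Y) [IsSeparated f] [EssFT.EssFiniteType f] :
    IsOpen {x : X | Flat (X.fromSpecStalk x ≫ f)} ∧
      (Flat f → ∃ (Z : Scheme.{u}) (i : X ⟶ Z) (h : Z ⟶ Y), IsNoetherian Z ∧ LocImm.IsLocImmersion i ∧
        IsSeparated h ∧ LocallyOfFiniteType h ∧ QuasiCompact h ∧ Flat h ∧ i ≫ h = f) := by
  refine (induction_principle f @Flat ?_ ?_ ?_).2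
  · intro W A B _ _ _ i g _ _ hi hg
    haveI := hg
    haveI := flat hi.1
    infer_instance
  · intro A B _ _ g _ _ h
    exact Flat.of_stalkMap g fun x => (flat_fromSpecStalk_comp_iff g x).mp (h x)
  · intro A B _ _ g _ _
    simp_rw [flat_fromSpecStalk_comp_iff]
    haveI : LocallyOfFinitePresentation g := UOpenLib.locallyOfFinitePresentation_of_isLocallyNoetherian g
    exact FlatLib.isOpen_setOf_flat_stalkMap g

end Groth.Agent.LocImmLib
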