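import Mathlib
import Groth.Prelude.Def_W4c5cptfessfintypeLocImm

/-! Ring-level facts about localizing ring maps. -/

universe u

open CategoryTheory

namespace Groth.Agent.LocImmLib

theorem isLocHom_away {A B A' B' : Type u} [CommRing A] [CommRing B] [CommRing A'] [CommRing B']
    {φ : A →+* B} {ι : A →+* A'} {κ : B →+* B'} {ψ : A' →+* B'} (h : ψ.comp ι = κ.comp φ) (a : A)
    (hι : @IsLocalization.Away A _ a A' _ ι.toAlgebra) (hκ : @IsLocalization.Away B _ (φ a) B' _ κ.toAlgebra)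
    (hφ : LocImm.IsLocHom φ) : LocImm.IsLocHom ψ := by
  let := φ.toAlgebra
  let := ι.toAlgebra
  let := κ.toAlgebra
  let := ψ.toAlgebra
  let := (κ.comp φ).toAlgebra
  have : IsScalarTower A A' B' := .of_algebraMap_eq fun x => (RingHom.congr_fun h x).symm
  have : IsScalarTower A B B' := .of_algebraMap_eq fun _ => rfl
  obtain ⟨S, hS⟩ := hφ
  have : IsLocalization (Submonoid.powers a) A' := hι
  have : IsLocalization (Algebra.algebraMapSubmonoid B (Submonoid.powers a)) B' := by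
    rw [Algebra.algebraMapSubmonoid, Submonoid.map_powers]
    exact hκ
  exact ⟨Algebra.algebraMapSubmonoid A' S, IsLocalization.commutes A' B B' (Submonoid.powers a) S⟩

theorem isLocHom_of_comp_injective {A B C : Type u} [CommRing A] [CommRing B] [CommRing C]
    (χ : A →+* B) (ψ : B →+* C) (h : LocImm.IsLocHom (ψ.comp χ)) (hψ : Function.Injective ψ) :
    LocImm.IsLocHom ψ := by
  let := ψ.toAlgebra
  let := (ψ.comp χ).toAlgebra
  obtain ⟨S, hS⟩ := h
  refine ⟨S.map χ, ⟨?_, fun z => ?_, fun {x y} e => ⟨1, ?_⟩⟩⟩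
  · rintro ⟨_, s, hs, rfl⟩
    exact IsLocalization.map_units C ⟨s, hs⟩
  · obtain ⟨⟨a, s⟩, hs⟩ := IsLocalization.surj S z
    exact ⟨⟨χ a, ⟨χ s, s, s.2, rfl⟩⟩, hs⟩
  · exact congrArg _ (hψ e)

theorem isLocHom_of_isPushout {A B A' B' : CommRingCat.{u}} {φ : A ⟶ B} {χ : A ⟶ A'} {β : B ⟶ B'}
    {ψ : A' ⟶ B'} (h : IsPushout φ χ β ψ) (hφ : LocImm.IsLocHom φ.hom) : LocImm.IsLocHom ψ.hom := by
  let := φ.hom.toAlgebra
  let := χ.hom.toAlgebra
  let := β.hom.toAlgebra
  let := ψ.hom.toAlgebra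
  let := (φ ≫ β).hom.toAlgebra
  have : IsScalarTower A B B' := .of_algebraMap_eq fun _ => rfl
  have : IsScalarTower A A' B' := .of_algebraMap_eq fun x => congr($(h.w) x)
  obtain ⟨S, hS⟩ := hφ
  exact ⟨Algebra.algebraMapSubmonoid A' S,
    (Algebra.isLocalization_iff_isPushout S B).mpr (CommRingCat.isPushout_iff_isPushout.mp h).symm⟩

end Groth.Agent.LocImmLib
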