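import Mathlib
import Groth.Prelude.Def_W4c5cptfessfintypeLocImm
import Groth.Agent.LocImmLib.Ring

/-! Localizing morphisms are flat, surjective on stalks and locally monomorphisms; localizing immersions
of noetherian schemes are preimmersions with arbitrarily small affine charts. -/

universe u

open CategoryTheory CategoryTheory.Limits AlgebraicGeometry TopologicalSpace

namespace Groth.Agent.LocImmLib

variable {X Y : Scheme.{u}} {f : X ⟶ Y}

theorem chart (U : Y.affineOpens) (V : X.affineOpens) (e : V.1 ≤ f ⁻¹ᵁ U.1)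
    (h : LocImm.IsLocHom (f.appLE U V e).hom) :
    Flat (V.1.ι ≫ f) ∧ IsPreimmersion (V.1.ι ≫ f) := by
  have hp : IsPreimmersion (Spec.map (f.appLE U.1 V.1 e)) := by
    let := (f.appLE U.1 V.1 e).hom.toAlgebra
    obtain ⟨S, hS⟩ := h
    exact IsPreimmersion.of_isLocalization (R := Γ(Y, U.1)) S
  have hf : Flat (Spec.map (f.appLE U.1 V.1 e)) := by
    rw [HasRingHomProperty.Spec_iff (P := @Flat)]
    let := (f.appLE U.1 V.1 e).hom.toAlgebra
    obtain ⟨S, hS⟩ := h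
    exact IsLocalization.flat Γ(X, V.1) S
  have he : V.1.ι ≫ f = V.2.isoSpec.hom ≫ Spec.map (f.appLE U.1 V.1 e) ≫ U.2.fromSpec := by
    rw [IsAffineOpen.SpecMap_appLE_fromSpec f U.2 V.2 e, IsAffineOpen.isoSpec_hom_fromSpec_assoc]
  rw [he]
  exact ⟨inferInstance, inferInstance⟩

theorem exists_chart (hf : LocImm.IsLocalizing f) (x : X) :
    ∃ V : X.Opens, x ∈ V ∧ Flat (V.ι ≫ f) ∧ IsPreimmersion (V.ι ≫ f) :=
  let ⟨U, V, hx, e, h⟩ := hf x
  ⟨V.1, hx, chart U V e h⟩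

theorem flat (hf : LocImm.IsLocalizing f) : Flat f := by
  choose V hx h1 _ using exists_chart hf
  exact (IsZariskiLocalAtSource.iff_of_iSup_eq_top (P := @Flat) V
    (eq_top_iff.mpr fun x _ => Opens.mem_iSup.mpr ⟨x, hx x⟩)).mpr h1

theorem surjectiveOnStalks (hf : LocImm.IsLocalizing f) : SurjectiveOnStalks f := by
  choose V hx _ h2 using exists_chart hf
  exact (IsZariskiLocalAtSource.iff_of_iSup_eq_top (P := @SurjectiveOnStalks) V
    (eq_top_iff.mpr fun x _ => Opens.mem_iSup.mpr ⟨x, hx x⟩)).mpr fun i => (h2 i).toSurjectiveOnStalks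

theorem isIso_stalkMap (hf : LocImm.IsLocalizing f) (x : X) : IsIso (f.stalkMap x) := by
  have := flat hf
  have := surjectiveOnStalks hf
  refine (ConcreteCategory.isIso_iff_bijective _).mpr ⟨?_, f.stalkMap_surjective x⟩
  algebraize [(f.stalkMap x).hom]
  have : Module.FaithfullyFlat (Y.presheaf.stalk (f x)) (X.presheaf.stalk x) :=
    @Module.FaithfullyFlat.of_flat_of_isLocalHom _ _ _ _ _ _ _
      (Flat.stalkMap f x) (f.toLRSHom.prop x)
  exact ‹RingHom.FaithfullyFlat _›.injective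

theorem eq_of_specializes (hf : LocImm.IsLocalizing f) {x x' : X} (h : x' ⤳ x) (he : f x' = f x) :
    x' = x := by
  obtain ⟨V, hx, _, hp⟩ := exists_chart hf x
  exact congrArg Subtype.val ((V.ι ≫ f).isEmbedding.injective
    (a₁ := (⟨x', h.mem_open V.2 hx⟩ : V)) (a₂ := (⟨x, hx⟩ : V)) he)

theorem hom_ext (hf : LocImm.IsLocalizing f) {T : Scheme.{u}} (g₁ g₂ : T ⟶ X)
    (h : g₁ ≫ f = g₂ ≫ f) (hb : ∀ t, g₁ t = g₂ t) : g₁ = g₂ := by
  choose V hx _ h2 using exists_chart hf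
  refine Scheme.Cover.hom_ext (T.openCoverOfIsOpenCover (fun x => g₁ ⁻¹ᵁ V x) ?_) _ _ fun x => ?_
  · refine eq_top_iff.mpr fun t _ => Opens.mem_iSup.mpr ⟨g₁ t, hx _⟩
  · change (g₁ ⁻¹ᵁ V x).ι ≫ g₁ = (g₁ ⁻¹ᵁ V x).ι ≫ g₂
    have := h2 x
    have r1 : Set.range ((g₁ ⁻¹ᵁ V x).ι ≫ g₁) ⊆ Set.range (V x).ι := by
      rintro _ ⟨t, rfl⟩
      rw [Scheme.Opens.range_ι, Scheme.Hom.comp_apply]
      exact t.2
    have r2 : Set.range ((g₁ ⁻¹ᵁ V x).ι ≫ g₂) ⊆ Set.range (V x).ι := by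
      rintro _ ⟨t, rfl⟩
      rw [Scheme.Opens.range_ι, Scheme.Hom.comp_apply, ← hb]
      exact t.2
    rw [← IsOpenImmersion.lift_fac (V x).ι _ r1, ← IsOpenImmersion.lift_fac (V x).ι _ r2]
    congr 1
    rw [← cancel_mono ((V x).ι ≫ f), ← Category.assoc, IsOpenImmersion.lift_fac, ← Category.assoc,
      IsOpenImmersion.lift_fac, Category.assoc, h, Category.assoc]

theorem isEmbedding [IsNoetherian X] (hf : LocImm.IsLocImmersion f) : Topology.IsEmbedding f := by
  have := flat hf.1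
  refine ⟨⟨TopologicalSpace.ext_isClosed fun Z => ⟨fun hZ => ?_, fun hZ => ?_⟩⟩, hf.2⟩
  · rw [isClosed_induced_iff]
    refine ⟨closure (f '' Z), isClosed_closure, Set.Subset.antisymm (fun x hx => ?_)
      fun x hx => subset_closure ⟨x, hx, rfl⟩⟩
    obtain ⟨S, hSfin, hScl, hSirr, rfl⟩ := NoetherianSpace.exists_finite_set_isClosed_irreducible hZ
    rw [Set.mem_preimage, Set.image_sUnion, (hSfin.image _).closure_sUnion] at hx
    simp only [Set.mem_image, Set.mem_iUnion, exists_prop, exists_exists_and_eq_and] at hx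
    obtain ⟨K, hK, hxK⟩ := hx
    have hη := (hSirr K hK).isGenericPoint_genericPoint (hScl K hK)
    have hs : f (hSirr K hK).genericPoint ⤳ f x := by
      rw [specializes_iff_mem_closure]
      refine closure_minimal ?_ isClosed_closure hxK
      rintro _ ⟨k, hk, rfl⟩
      exact specializes_iff_mem_closure.mp ((hη.specializes hk).map f.continuous)
    obtain ⟨x', hx', he⟩ := Flat.generalizingMap f hs
    rw [hf.2 he] at hx'
    exact ⟨K, hK, hx'.mem_closed (hScl K hK) hη.mem⟩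
  · exact IsClosed.mono hZ f.continuous.le_induced

theorem isPreimmersion [IsNoetherian X] (hf : LocImm.IsLocImmersion f) : IsPreimmersion f :=
  { surjectiveOnStalks hf.1 with isEmbedding := isEmbedding hf }

theorem stableUnderGeneralization_range (hf : LocImm.IsLocalizing f) :
    StableUnderGeneralization (Set.range f) :=
  have := flat hf
  (Flat.generalizingMap f).stableUnderGeneralization_range

/-- Affine charts of a localizing immersion can be taken inside any open of the source, and of the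
form `f ⁻¹ᵁ W → W`. -/
theorem exists_nhd [IsNoetherian X] (hf : LocImm.IsLocImmersion f) (x : X) (P : X.Opens) (hxP : x ∈ P)
    (Q : Y.Opens) (hxQ : f x ∈ Q) :
    ∃ W : Y.Opens, f x ∈ W ∧ W ≤ Q ∧ IsAffineOpen W ∧ f ⁻¹ᵁ W ≤ P ∧ IsAffineOpen (f ⁻¹ᵁ W) ∧
      LocImm.IsLocHom (f.app W).hom := by
  obtain ⟨⟨U, hU⟩, ⟨V, hV⟩, hxV, e, h⟩ := hf.1 x
  obtain ⟨O, hO, hOP⟩ := (isEmbedding hf).isInducing.isOpen_iff.mp (V ⊓ P).2
  have hxO : f x ∈ O := by
    rw [← Set.mem_preimage, hOP]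
    exact ⟨hxV, hxP⟩
  obtain ⟨a, haO, hxa⟩ := hU.exists_basicOpen_le (V := ⟨O, hO⟩ ⊓ Q) ⟨f x, hxO, hxQ⟩ (e hxV)
  have hP : f ⁻¹ᵁ Y.basicOpen a ≤ V ⊓ P := fun z hz => hOP.le (haO hz).1
  have hpre : f ⁻¹ᵁ Y.basicOpen a = X.basicOpen (f.appLE U V e a) := by
    rw [Scheme.basicOpen_appLE]
    exact le_antisymm (le_inf (hP.trans inf_le_left) le_rfl) inf_le_right
  refine ⟨Y.basicOpen a, hxa, fun z hz => (haO hz).2, hU.basicOpen a, hP.trans inf_le_right,
    hpre ▸ hV.basicOpen _, ?_⟩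
  have key : ∀ {V' : X.Opens} (e' : V' ≤ f ⁻¹ᵁ Y.basicOpen a), V' = f ⁻¹ᵁ Y.basicOpen a →
      LocImm.IsLocHom (f.appLE (Y.basicOpen a) V' e').hom → LocImm.IsLocHom (f.app (Y.basicOpen a)).hom := by
    rintro V' e' rfl h'
    rwa [Scheme.Hom.app_eq_appLE]
  refine key hpre.ge hpre.symm (isLocHom_away
    (ι := (Y.presheaf.map (homOfLE (Y.basicOpen_le a)).op).hom)
    (κ := (X.presheaf.map (homOfLE (X.basicOpen_le (f.appLE U V e a))).op).hom) ?_ a
    (hU.isLocalization_basicOpen a) (hV.isLocalization_basicOpen _) h)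
  rw [← CommRingCat.hom_comp, ← CommRingCat.hom_comp, Scheme.Hom.map_appLE, Scheme.Hom.appLE_map]

end Groth.Agent.LocImmLib
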