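import Groth.Agent.LocImmLib.Graph
import Groth.Agent.RGFlatLib.CommonTarget

/-! Common targets of finitely many localizing immersions after admissible blow-ups. -/

universe u

open CategoryTheory CategoryTheory.Limits AlgebraicGeometry TopologicalSpace

namespace Groth.Agent.LocImmLib

variable {U S W₀ : Scheme.{u}}

/-- Finitely many localizing immersions into schemes of finite type share an open neighbourhood. -/
theorem exists_common_nhd_fin [IsNoetherian U] [IsNoetherian S] (gU : U ⟶ S) :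
    ∀ {m : ℕ} (W : Fin (m + 1) → Scheme.{u}) [∀ i, IsNoetherian (W i)] (p : ∀ i, W i ⟶ S)
      [∀ i, IsSeparated (p i)] [∀ i, LocallyOfFiniteType (p i)] (f : ∀ i, U ⟶ W i),
      (∀ i, LocImm.IsLocImmersion (f i)) → (∀ i, f i ≫ p i = gU) →
      ∃ (W₀ : Scheme.{u}) (k₀ : U ⟶ W₀) (g₀ : W₀ ⟶ S) (e : ∀ i, W₀ ⟶ W i),
        IsNoetherian W₀ ∧ LocImm.IsLocImmersion k₀ ∧ IsSeparated g₀ ∧ LocallyOfFiniteType g₀ ∧
        ∀ i, IsOpenImmersion (e i) ∧ k₀ ≫ e i = f i ∧ e i ≫ p i = g₀ := by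
  intro m
  induction m with
  | zero =>
    intro W _ p _ _ f hf hfp
    refine ⟨W 0, f 0, p 0, fun i => eqToHom (by rw [Fin.eq_zero i]), inferInstance, hf 0, inferInstance,
      inferInstance, fun i => ?_⟩
    obtain rfl := Fin.eq_zero i
    exact ⟨inferInstance, Category.comp_id _, Category.id_comp _⟩
  | succ m ih =>
    intro W _ p _ _ f hf hfp
    obtain ⟨W₁, k₁, g₁, e₁, _, hk₁, _, _, he₁⟩ :=
      ih (fun i => W i.castSucc) (fun i => p i.castSucc) (fun i => f i.castSucc) (fun i => hf _) (fun i => hfp _)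
    have hk₁g : k₁ ≫ g₁ = gU := by rw [← (he₁ 0).2.2, reassoc_of% (he₁ 0).2.1, hfp]
    obtain ⟨W₀, k₀, a, b, _, hk₀, _, _, ha, hb, hab⟩ :=
      exists_common_nhd k₁ (f (Fin.last _)) g₁ (p (Fin.last _)) hk₁ (hf _) (hk₁g.trans (hfp _).symm)
    refine ⟨W₀, k₀, a ≫ g₁, fun i => Fin.lastCases b (fun i => a ≫ e₁ i) i, inferInstance, hk₀,
      inferInstance, inferInstance, fun i => ?_⟩
    refine Fin.lastCases ?_ (fun i => ?_) i
    · simp only [Fin.lastCases_last]
      exact ⟨inferInstance, hb, hab.symm⟩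
    · simp only [Fin.lastCases_castSucc]
      haveI := (he₁ i).1
      exact ⟨inferInstance, by rw [reassoc_of% ha, (he₁ i).2.1], by rw [Category.assoc, (he₁ i).2.2]⟩

/-- Finitely many models of a scheme over a noetherian base map to a common one after admissible blow-ups. -/
theorem exists_common_target_fin [IsNoetherian S] (g₀ : W₀ ⟶ S) [IsNoetherian W₀] [IsSeparated g₀]
    [LocallyOfFiniteType g₀] :
    ∀ {n : ℕ} (W : Fin n → Scheme.{u}) [∀ i, IsNoetherian (W i)] (p : ∀ i, W i ⟶ S)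
      [∀ i, IsSeparated (p i)] [∀ i, LocallyOfFiniteType (p i)] (j : ∀ i, W₀ ⟶ W i) [∀ i, IsOpenImmersion (j i)],
      (∀ i, j i ≫ p i = g₀) →
      ∃ (Z : Scheme.{u}) (r : Z ⟶ S) (w : W₀ ⟶ Z),
        IsSeparated r ∧ LocallyOfFiniteType r ∧ QuasiCompact r ∧ IsOpenImmersion w ∧ w ≫ r = g₀ ∧
        ∀ i, ∃ (M : (W i).IdealSheafData) (W' : Scheme.{u}) (β : W' ⟶ W i) (v : W₀ ⟶ W') (o : W' ⟶ Z),
          BlowUp.IsBlowUp β M ∧ BlowUp.IsAdmissibleFor (j i).opensRange M ∧ IsOpenImmersion o ∧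
          v ≫ β = j i ∧ v ≫ o = w ∧ o ≫ r = β ≫ p i := by
  intro n
  induction n with
  | zero =>
    intro W _ p _ _ j _ hj
    exact ⟨W₀, g₀, 𝟙 _, inferInstance, inferInstance, ⟨fun U hU hUc => NoetherianSpace.isCompact _⟩, inferInstance,
      Category.id_comp _, fun i => i.elim0⟩
  | succ n ih =>
    intro W _ p _ _ j _ hj
    obtain ⟨Z, r, w, _, _, _, _, hw, hall⟩ :=
      ih (fun i => W i.castSucc) (fun i => p i.castSucc) (fun i => j i.castSucc) (fun i => hj _)
    haveI : IsLocallyNoetherian Z := LocallyOfFiniteType.isLocallyNoetherian r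
    haveI : CompactSpace Z := QuasiCompact.compactSpace_of_compactSpace r
    haveI : IsNoetherian Z := { }
    haveI : QuasiCompact g₀ := ⟨fun U hU hUc => NoetherianSpace.isCompact _⟩
    haveI : QuasiCompact (p (Fin.last n)) := ⟨fun U hU hUc => NoetherianSpace.isCompact _⟩
    obtain ⟨X, q, hq, hq', hq'', I₁, I₂, Z', W', b₁, b₂, o₁, o₂, u₁, u₂, hb₁, ha₁, hb₂, ha₂, ho₁, ho₂, hoq₁, hoq₂,
      hu₁, hu₂, hu⟩ := RGFlatLib.exists_common_target g₀ r (p (Fin.last n)) w (j (Fin.last n)) hw (hj _)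
    haveI := ho₁
    haveI : IsOpenImmersion u₁ :=
      (NagataCompLib.isOpenImmersion_lift w b₁ (NagataCompLib.isIso_restrict_of_admissible hb₁ ha₁) u₁ hu₁).1
    refine ⟨X, q, u₁ ≫ o₁, hq, hq', hq'', inferInstance, by rw [Category.assoc, hoq₁, reassoc_of% hu₁, hw],
      fun i => ?_⟩
    refine Fin.lastCases ?_ (fun i => ?_) i
    · exact ⟨I₂, W', b₂, u₂, o₂, hb₂, ha₂, ho₂, hu₂, hu.symm, hoq₂⟩
    obtain ⟨M, W₁, β, v, o, hβ, hM, ho, hv, hvo, hor⟩ := hall i
    haveI := ho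
    haveI := isNoetherian_of_isBlowUp hβ
    have hsq := IsPullback.of_hasPullback o b₁
    have hγ : BlowUp.IsBlowUp (pullback.fst o b₁) (I₁.comap o) := BlowUpLib.isBlowUp_of_isPullback hsq.flip hb₁
    have hrv := (NagataCompLib.isOpenImmersion_lift (j i.castSucc) β
      (NagataCompLib.isIso_restrict_of_admissible hβ hM) v hv).2
    have hγM : BlowUp.IsAdmissibleFor (β ⁻¹ᵁ (j i.castSucc).opensRange) (I₁.comap o) := by
      refine ⟨isFiniteTypeIdeal _, Set.disjoint_left.mpr fun z hz hz' => ?_⟩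
      rw [Scheme.IdealSheafData.support_comap] at hz
      obtain ⟨t, rfl⟩ : z ∈ Set.range v := by rw [hrv]; exact hz'
      refine Set.disjoint_left.mp ha₁.2 hz ?_
      exact ⟨t, congr($hvo.symm t)⟩
    obtain ⟨K, hK, hKb⟩ := RGFlatLib.exists_admissible_comp hβ hM hγ hγM
    have hc : v ≫ o = u₁ ≫ b₁ := hvo.trans hu₁.symm
    refine ⟨K, pullback o b₁, pullback.fst o b₁ ≫ β, pullback.lift v u₁ hc, pullback.snd o b₁ ≫ o₁, hKb, hK,
      inferInstance, ?_, ?_, ?_⟩
    · rw [pullback.lift_fst_assoc, hv]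
    · rw [pullback.lift_snd_assoc]
    · rw [Category.assoc, hoq₁, ← pullback.condition_assoc, hor, Category.assoc]

/-- An open can be made dense by an admissible blow-up. -/
theorem exists_dense_blowUp {W : Scheme.{u}} [IsNoetherian W] (V : W.Opens) :
    ∃ (M : W.IdealSheafData) (W' : Scheme.{u}) (β : W' ⟶ W),
      BlowUp.IsBlowUp β M ∧ BlowUp.IsAdmissibleFor V M ∧ Dense ((β ⁻¹ᵁ V : W'.Opens) : Set W') := by
  let C : Closeds W := ⟨(V : Set W)ᶜ, V.isOpen.isClosed_compl⟩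
  let M := Scheme.IdealSheafData.vanishingIdeal C
  have hM : M.support = C := rfl
  obtain ⟨W', β, hβ⟩ := BlowUpLib.exists_isBlowUp W M
  refine ⟨M, W', β, hβ, ⟨isFiniteTypeIdeal _, ?_⟩, ?_⟩
  · rw [hM]
    exact disjoint_compl_left
  · have := ModPairLib.isAffineHom_interior hβ.1
    have := ModPairLib.isDominant_interior hβ.1
    have h2 : Dense (Set.range (ModPair.interior (M.comap β)).ι) :=
      ((ModPair.interior (M.comap β)).ι).denseRange
    rw [Scheme.Opens.range_ι, ModPairLib.interior_comap] at h2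
    have e : ModPair.interior M = V := by
      ext z
      show z ∉ (M.support : Set W) ↔ z ∈ V
      rw [hM]
      exact not_not
    rwa [e] at h2

/-- Localizing immersions over a noetherian base map densely to a common scheme of finite type after
admissible blow-ups. -/
theorem exists_common_dense [IsNoetherian S] [IsNoetherian U] {n : ℕ} (gU : U ⟶ S) (Y : Fin n → Scheme.{u})
    [∀ i, IsNoetherian (Y i)] (q : ∀ i, Y i ⟶ S) [∀ i, IsSeparated (q i)] [∀ i, EssFT.EssFiniteType (q i)]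
    (f : ∀ i, U ⟶ Y i) (hf : ∀ i, LocImm.IsLocImmersion (f i)) (hfq : ∀ i, f i ≫ q i = gU) :
    ∃ (Z : Scheme.{u}) (r : Z ⟶ S) (_ : IsSeparated r) (_ : LocallyOfFiniteType r) (_ : QuasiCompact r)
      (𝓘 : ∀ i, (Y i).IdealSheafData) (Yt : Fin n → Scheme.{u}) (b : ∀ i, Yt i ⟶ Y i) (u : ∀ i, U ⟶ Yt i)
      (g : ∀ i, Yt i ⟶ Z),
      (∀ i, BlowUp.IsBlowUp (b i) (𝓘 i) ∧ Disjoint ((𝓘 i).support : Set (Y i)) (Set.range (fun x => f i x)) ∧
        u i ≫ b i = f i ∧ LocImm.IsLocImmersion (g i) ∧ Dense (Set.range (fun x => g i x)) ∧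
        g i ≫ r = b i ≫ q i) ∧
      (∀ i i', u i ≫ g i = u i' ≫ g i') := by
  rcases n with _ | m
  · exact ⟨S, 𝟙 S, inferInstance, inferInstance, inferInstance, fun i => i.elim0, fun i => i.elim0,
      fun i => i.elim0, fun i => i.elim0, fun i => i.elim0, fun i => i.elim0, fun i => i.elim0⟩
  choose W k p hW hk hp hp' hp'' hkp using fun i => hasFactor (q i)
  have hfk : ∀ i, LocImm.IsLocImmersion (f i ≫ k i) := fun i => comp (hf i) (hk i)
  obtain ⟨W₁, k₁, g₁, e, _, hk₁, _, _, he⟩ := exists_common_nhd_fin gU W p (fun i => f i ≫ k i) hfk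
    fun i => by rw [Category.assoc, hkp, hfq]
  obtain ⟨V₀, hV₀, hV₀d⟩ := exists_nhd_dense hk₁
  obtain ⟨k₀, hk₀, hk₀l⟩ := lift_opens hk₁ V₀ hV₀
  haveI := isNoetherian_opens V₀
  have hdense : DenseRange k₀ := fun z => by
    rw [V₀.ι.isOpenEmbedding.isInducing.closure_eq_preimage_closure_image]
    show V₀.ι z ∈ closure (V₀.ι '' Set.range k₀)
    rw [← Set.range_comp, ← TopCat.coe_comp, ← Scheme.Hom.comp_base, hk₀]
    exact hV₀d z.2
  haveI : ∀ i, IsOpenImmersion (V₀.ι ≫ e i) := fun i => by haveI := (he i).1; infer_instance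
  choose M W' β hβ hM hβd using fun i => exists_dense_blowUp (W := W i) (V₀.ι ≫ e i).opensRange
  haveI : ∀ i, IsNoetherian (W' i) := fun i => isNoetherian_of_isBlowUp (hβ i)
  haveI : ∀ i, IsProper (β i) := fun i => BlowUpLib.isProper_of_isBlowUp (hβ i) (hM i).1
  choose v hv using fun i => exists_lift (hβ i) (V₀.ι ≫ e i) (hM i).2
  haveI : ∀ i, IsOpenImmersion (v i) := fun i =>
    (NagataCompLib.isOpenImmersion_lift _ (β i) (NagataCompLib.isIso_restrict_of_admissible (hβ i) (hM i)) _ (hv i)).1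
  have hrv : ∀ i, Set.range (v i) = β i ⁻¹' Set.range (V₀.ι ≫ e i) := fun i =>
    (NagataCompLib.isOpenImmersion_lift _ (β i) (NagataCompLib.isIso_restrict_of_admissible (hβ i) (hM i)) _ (hv i)).2
  obtain ⟨Z, r, w, _, _, _, _, -, hall⟩ := exists_common_target_fin (V₀.ι ≫ g₁) W' (fun i => β i ≫ p i) v
    fun i => by rw [reassoc_of% hv i, (he i).2.2]
  choose N W'' γ x o hγ hN ho hx hxo hor using hall
  haveI : ∀ i, IsNoetherian (W'' i) := fun i => isNoetherian_of_isBlowUp (hγ i)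
  haveI : ∀ i, IsProper (γ i) := fun i => BlowUpLib.isProper_of_isBlowUp (hγ i) (hN i).1
  have hNd : ∀ i, BlowUp.IsAdmissibleFor (β i ⁻¹ᵁ (V₀.ι ≫ e i).opensRange) (N i) := fun i => by
    have h : (v i).opensRange = β i ⁻¹ᵁ (V₀.ι ≫ e i).opensRange := Opens.ext (hrv i)
    exact h ▸ hN i
  choose K hK hKb using fun i => RGFlatLib.exists_admissible_comp (hβ i) (hM i) (hγ i) (hNd i)
  -- the base changes to the given schemes
  haveI : ∀ i, Flat (k i) := fun i => flat (hk i).1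
  haveI : ∀ i, IsNoetherian (pullback (k i) (γ i ≫ β i)) := fun i => by
    haveI : IsLocallyNoetherian (pullback (k i) (γ i ≫ β i)) :=
      LocallyOfFiniteType.isLocallyNoetherian (pullback.fst (k i) (γ i ≫ β i))
    haveI : CompactSpace ↥(pullback (k i) (γ i ≫ β i)) :=
      QuasiCompact.compactSpace_of_compactSpace (pullback.fst (k i) (γ i ≫ β i))
    exact { }
  let Zu : Z.Opens := ⨆ i, (o i).opensRange
  have hle : ∀ i, (o i).opensRange ≤ Zu := le_iSup fun i => (o i).opensRange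
  let o' : ∀ i, W'' i ⟶ (Zu : Scheme.{u}) := fun i =>
    IsOpenImmersion.lift Zu.ι (o i) (by rw [Scheme.Opens.range_ι]; exact hle i)
  have ho' : ∀ i, o' i ≫ Zu.ι = o i := fun i => IsOpenImmersion.lift_fac _ _ _
  haveI : ∀ i, IsOpenImmersion (o' i) := fun i => by
    haveI := ho i
    haveI : IsOpenImmersion (o' i ≫ Zu.ι) := by rw [ho']; infer_instance
    exact IsOpenImmersion.of_comp _ Zu.ι
  haveI : IsLocallyNoetherian Z := LocallyOfFiniteType.isLocallyNoetherian r
  haveI : CompactSpace Z := QuasiCompact.compactSpace_of_compactSpace r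
  haveI : IsNoetherian Z := { }
  haveI := isNoetherian_opens Zu
  have hlift : ∀ i, f i ≫ k i = (k₀ ≫ x i) ≫ γ i ≫ β i := fun i => by
    rw [Category.assoc, reassoc_of% hx i, hv, reassoc_of% hk₀, (he i).2.1]
  let u : ∀ i, U ⟶ pullback (k i) (γ i ≫ β i) := fun i => pullback.lift (f i) (k₀ ≫ x i) (hlift i)
  let g : ∀ i, pullback (k i) (γ i ≫ β i) ⟶ (Zu : Scheme.{u}) := fun i => pullback.snd _ _ ≫ o' i
  have hug : ∀ i, u i ≫ g i ≫ Zu.ι = k₀ ≫ w := fun i => by
    simp only [u, g, Category.assoc, ho', pullback.lift_snd_assoc, hxo]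
  have hug' : ∀ i i', u i ≫ g i = u i' ≫ g i' := fun i i' => by
    rw [← cancel_mono Zu.ι]
    exact (Category.assoc _ _ _).trans ((hug i).trans ((hug i').symm.trans (Category.assoc _ _ _).symm))
  refine ⟨Zu, Zu.ι ≫ r, inferInstance, inferInstance, ⟨fun U hU hUc => NoetherianSpace.isCompact _⟩,
    fun i => (K i).comap (k i), fun i => pullback (k i) (γ i ≫ β i), fun i => pullback.fst _ _, u, g,
    fun i => ⟨BlowUpLib.isBlowUp_of_isPullback (IsPullback.of_hasPullback _ _).flip (hKb i), ?_,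
      pullback.lift_fst _ _ _, ?_, ?_, ?_⟩, hug'⟩
  · rw [Scheme.IdealSheafData.support_comap]
    refine Set.disjoint_left.mpr ?_
    rintro _ hy ⟨z, rfl⟩
    refine Set.disjoint_left.mp (hK i).2 hy ⟨k₀ z, ?_⟩
    exact congr($((reassoc_of% hk₀) (e i)) z).trans congr($((he i).2.1) z)
  · exact comp (Groth.Agent.S18202.result (k i) (γ i ≫ β i) (hk i)) (isLocImmersion_of_isOpenImmersion (o' i))
  · intro z
    obtain ⟨i', y, hy⟩ : ∃ i', z.1 ∈ Set.range (o i') := Opens.mem_iSup.mp z.2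
    have hd : Dense (γ i' ⁻¹' Set.range (v i')) :=
      dense_preimage_blowUp (hγ i') (by rw [hrv i']; exact hβd i') (hN i').2
    rw [← (NagataCompLib.isOpenImmersion_lift (v i') (γ i')
      (NagataCompLib.isIso_restrict_of_admissible (hγ i') (hN i')) (x i') (hx i')).2] at hd
    have hd' : DenseRange (k₀ ≫ x i') := fun t =>
      closure_minimal (by
        rintro _ ⟨a, rfl⟩
        exact image_closure_subset_closure_image (x i').continuous ⟨a, hdense a, rfl⟩ |>
          fun h => closure_mono (by rintro _ ⟨_, ⟨c, rfl⟩, rfl⟩; exact ⟨c, rfl⟩) h) isClosed_closure (hd t)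
    have hz : z = o' i' y := Subtype.ext (hy.symm.trans congr($((ho' i').symm) y))
    rw [hz]
    refine closure_mono ?_ (image_closure_subset_closure_image (o' i').continuous ⟨y, hd' y, rfl⟩)
    rintro _ ⟨_, ⟨c, rfl⟩, rfl⟩
    refine ⟨u i c, ?_⟩
    show (u i ≫ g i) c = _
    rw [hug' i i']
    simp only [u, g, pullback.lift_snd_assoc, Category.assoc]
    rfl
  · simp only [g, Category.assoc, reassoc_of% ho' i, hor]
    rw [← hkp i, pullback.condition_assoc, Category.assoc]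

end Groth.Agent.LocImmLib
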