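import Groth.Agent.LocImmLib.Factor
import Groth.Agent.NagataCompLib.Nagata
import Groth.Agent.S18205
import Groth.Agent.S0385

/-! Consequences of the factorization of morphisms essentially of finite type. -/

universe u

open CategoryTheory CategoryTheory.Limits AlgebraicGeometry TopologicalSpace

namespace Groth.Agent.LocImmLib

variable {X Y S : Scheme.{u}}

theorem isLocImmersion_fromSpecStalk [IsNoetherian Y] (y : Y) : LocImm.IsLocImmersion (Y.fromSpecStalk y) := by
  obtain ⟨V, hV, hyV, -⟩ := exists_isAffineOpen_mem_and_subset (x := y) (U := ⊤) trivial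
  rw [← hV.fromSpecStalk_eq_fromSpecStalk hyV, IsAffineOpen.fromSpecStalk]
  haveI : IsNoetherianRing Γ(Y, V) := IsLocallyNoetherian.component_noetherian ⟨V, hV⟩
  exact comp (isLocImmersion_SpecMap (Y.presheaf.germ V y hyV)
    ⟨(hV.primeIdealOf ⟨y, hyV⟩).asIdeal.primeCompl, hV.isLocalization_stalk ⟨y, hyV⟩⟩)
    (isLocImmersion_of_isOpenImmersion _)

theorem isLocallyEssFiniteType_of_isLocalizing {k : X ⟶ Y} (hk : LocImm.IsLocalizing k) :
    EssFT.LocallyEssFiniteType k := by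
  refine ⟨fun x => ?_⟩
  obtain ⟨U, V, hx, e, h⟩ := hk x
  refine ⟨U, V, hx, e, ?_⟩
  let := (k.appLE U.1 V.1 e).hom.toAlgebra
  obtain ⟨T, hT⟩ := h
  show Algebra.EssFiniteType Γ(Y, U.1) Γ(X, V.1)
  exact Algebra.EssFiniteType.of_isLocalization Γ(X, V.1) T

theorem isLocallyEssFiniteType_comp (f : X ⟶ Y) (g : Y ⟶ S) (hf : EssFT.LocallyEssFiniteType f)
    (hg : EssFT.LocallyEssFiniteType g) : EssFT.LocallyEssFiniteType (f ≫ g) := by
  haveI : MorphismProperty.IsStableUnderComposition @EssFT.LocallyEssFiniteType :=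
    HasRingHomProperty.stableUnderComposition (RingHom.locally_stableUnderComposition
      RingHom.EssFiniteType.respectsIso RingHom.EssFiniteType.isStableUnderBaseChange.localizationPreserves
      RingHom.EssFiniteType.stableUnderComposition)
  exact MorphismProperty.comp_mem _ f g hf hg

theorem isLocallyEssFiniteType_of_locallyOfFiniteType (g : Y ⟶ S) [LocallyOfFiniteType g] :
    EssFT.LocallyEssFiniteType g := by
  refine ⟨fun y => ?_⟩
  obtain ⟨U, hU, hyU, -⟩ := exists_isAffineOpen_mem_and_subset (x := g y) (U := ⊤) trivial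
  obtain ⟨V, hV, hyV, hVU⟩ := exists_isAffineOpen_mem_and_subset (x := y) (U := g ⁻¹ᵁ U) hyU
  refine ⟨⟨U, hU⟩, ⟨V, hV⟩, hyV, hVU, ?_⟩
  exact (HasRingHomProperty.appLE @LocallyOfFiniteType g ‹_› ⟨U, hU⟩ ⟨V, hV⟩ hVU).essFiniteType

/-- An open neighbourhood of the image of a localizing immersion receives it. -/
theorem exists_restrict [IsNoetherian X] [IsNoetherian Y] {k : X ⟶ Y} (hk : LocImm.IsLocImmersion k) (p : Y ⟶ S)
    (U : Y.Opens) (hU : ∀ x, k x ∈ U) :
    ∃ k' : X ⟶ (U : Scheme.{u}), LocImm.IsLocImmersion k' ∧ k' ≫ U.ι = k ∧ k' ≫ U.ι ≫ p = k ≫ p := by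
  obtain ⟨k', hk', hl⟩ := lift_opens hk U (by rintro _ ⟨x, rfl⟩; exact hU x)
  exact ⟨k', hl, hk', by rw [reassoc_of% hk']⟩

variable [IsNoetherian X] [IsNoetherian S] (f : X ⟶ S) [IsSeparated f] [EssFT.EssFiniteType f]

theorem exists_proper_factor :
    ∃ (Y : Scheme.{u}) (k : X ⟶ Y) (p : Y ⟶ S), IsNoetherian Y ∧ LocImm.IsLocImmersion k ∧ IsProper p ∧
      k ≫ p = f := by
  obtain ⟨Y, k, p, _, hk, _, _, _, hkp⟩ := hasFactor f
  obtain ⟨Z, j, q, _, _, _, hjq⟩ := NagataCompLib.exists_compactification p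
  haveI : IsLocallyNoetherian Z := LocallyOfFiniteType.isLocallyNoetherian q
  haveI : CompactSpace Z := QuasiCompact.compactSpace_of_compactSpace q
  exact ⟨Z, k ≫ j, q, { }, comp hk (isLocImmersion_of_isOpenImmersion j), ‹_›, by rw [Category.assoc, hjq, hkp]⟩

theorem isProper_of_universallyClosed [UniversallyClosed f] : IsProper f := by
  obtain ⟨Y, k, p, _, hk, _, _, _, rfl⟩ := hasFactor f
  haveI : UniversallyClosed k := .of_comp_of_isSeparated k p
  have hc : IsClosed (Set.range k) := by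
    rw [← Set.image_univ]
    exact k.isClosedMap _ isClosed_univ
  haveI : IsOpenImmersion k := Groth.Agent.S18205.result k hk hc
  exact { }

theorem exists_finite_factor [LocallyQuasiFinite f] :
    ∃ (Z : Scheme.{u}) (i : X ⟶ Z) (h : Z ⟶ S), IsNoetherian Z ∧ LocImm.IsLocImmersion i ∧ IsFinite h ∧
      i ≫ h = f := by
  obtain ⟨Y, k, p, _, hk, _, _, _, hkp⟩ := hasFactor f
  let U := p.quasiFiniteLocus
  have hU : ∀ x, k x ∈ U := fun x => by
    have h := f.quasiFiniteAt x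
    rw [← hkp] at h
    haveI := isIso_stalkMap hk.1 x
    rw [Scheme.Hom.QuasiFiniteAt, Scheme.Hom.stalkMap_comp] at h
    exact (RingHom.QuasiFinite.respectsIso.cancel_right_isIso (p.stalkMap (k x)) (k.stalkMap x)).mp h
  obtain ⟨k', hk', -, hkp'⟩ := exists_restrict hk p U hU
  haveI := isNoetherian_opens U
  haveI : QuasiCompact (U.ι ≫ p) := ⟨fun U hU hUc => NoetherianSpace.isCompact _⟩
  obtain ⟨T, j, π, _, _, _, hjπ⟩ := Groth.Agent.S0385.result (U.ι ≫ p)
  haveI : IsLocallyNoetherian T := LocallyOfFiniteType.isLocallyNoetherian π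
  haveI : CompactSpace T := QuasiCompact.compactSpace_of_compactSpace π
  exact ⟨T, k' ≫ j, π, { }, comp hk' (isLocImmersion_of_isOpenImmersion j), ‹_›,
    by rw [Category.assoc, hjπ, hkp', hkp]⟩

omit [EssFT.EssFiniteType f] [IsSeparated f] in
/-- The stalk criterion for a property compatible with localizing immersions. -/
theorem induction_principle (P : MorphismProperty Scheme.{u})
    (hα : ∀ {W X Y : Scheme.{u}} [IsNoetherian W] [IsNoetherian X] [IsNoetherian Y] (i : W ⟶ X) (f : X ⟶ Y)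
      [IsSeparated f] [EssFT.EssFiniteType f], LocImm.IsLocImmersion i → P f → P (i ≫ f))
    (hβ₁ : ∀ {X Y : Scheme.{u}} [IsNoetherian X] [IsNoetherian Y] (f : X ⟶ Y) [IsSeparated f]
      [LocallyOfFiniteType f], (∀ x : X, P (X.fromSpecStalk x ≫ f)) → P f)
    (hβ₂ : ∀ {X Y : Scheme.{u}} [IsNoetherian X] [IsNoetherian Y] (f : X ⟶ Y) [IsSeparated f]
      [LocallyOfFiniteType f], IsOpen {x : X | P (X.fromSpecStalk x ≫ f)})
    [IsSeparated f] [EssFT.EssFiniteType f] :
    ((∀ x : X, P (X.fromSpecStalk x ≫ f)) → P f) ∧ IsOpen {x : X | P (X.fromSpecStalk x ≫ f)} ∧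
      (P f → ∃ (Z : Scheme.{u}) (i : X ⟶ Z) (h : Z ⟶ S), IsNoetherian Z ∧ LocImm.IsLocImmersion i ∧
        IsSeparated h ∧ LocallyOfFiniteType h ∧ QuasiCompact h ∧ P h ∧ i ≫ h = f) := by
  have ess : ∀ {A : Scheme.{u}} [IsNoetherian A] {B : Scheme.{u}} {i : A ⟶ B}, LocImm.IsLocImmersion i →
      ∀ {C : Scheme.{u}} (g : B ⟶ C), EssFT.LocallyEssFiniteType g → EssFT.EssFiniteType (i ≫ g) :=
    fun {A} _ {B} {i} hi {C} g hg =>
      { toLocallyEssFiniteType := isLocallyEssFiniteType_comp i g (isLocallyEssFiniteType_of_isLocalizing hi.1) hg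
        toQuasiCompact := ⟨fun U hU hUc => NoetherianSpace.isCompact _⟩ }
  have stalks : ∀ {A B : Scheme.{u}} [IsNoetherian A] [IsNoetherian B] (k : A ⟶ B), LocImm.IsLocImmersion k →
      ∀ (g : B ⟶ S) [IsSeparated g] [LocallyOfFiniteType g] (a : A),
      P (B.fromSpecStalk (k a) ≫ g) ↔ P (A.fromSpecStalk a ≫ k ≫ g) := by
    intro A B _ _ k hk g _ _ a
    haveI := isPreimmersion hk
    haveI := isIso_stalkMap hk.1 a
    haveI : EssFT.EssFiniteType (B.fromSpecStalk (k a) ≫ g) :=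
      ess (isLocImmersion_fromSpecStalk _) g (isLocallyEssFiniteType_of_locallyOfFiniteType g)
    haveI : EssFT.EssFiniteType (A.fromSpecStalk a ≫ k ≫ g) :=
      ess (isLocImmersion_fromSpecStalk _) _ (isLocallyEssFiniteType_comp k g
        (isLocallyEssFiniteType_of_isLocalizing hk.1) (isLocallyEssFiniteType_of_locallyOfFiniteType g))
    refine ⟨fun h => ?_, fun h => ?_⟩
    · have := hα (Spec.map (k.stalkMap a)) _ (isLocImmersion_of_isOpenImmersion _) h
      rwa [Scheme.SpecMap_stalkMap_fromSpecStalk_assoc] at this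
    · have := hα (inv (Spec.map (k.stalkMap a))) _ (isLocImmersion_of_isOpenImmersion _) h
      rwa [← Scheme.SpecMap_stalkMap_fromSpecStalk_assoc, IsIso.inv_hom_id_assoc] at this
  obtain ⟨Y, k, p, _, hk, _, _, _, hkp⟩ := hasFactor f
  have hset : {x : X | P (X.fromSpecStalk x ≫ f)} = k ⁻¹' {y : Y | P (Y.fromSpecStalk y ≫ p)} := by
    ext x
    show P (X.fromSpecStalk x ≫ f) ↔ P (Y.fromSpecStalk (k x) ≫ p)
    rw [stalks k hk p x, hkp]
  let U : Y.Opens := ⟨{y : Y | P (Y.fromSpecStalk y ≫ p)}, hβ₂ p⟩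
  haveI := isNoetherian_opens U
  have hU : P (U.ι ≫ p) := hβ₁ _ fun y => (stalks U.ι (isLocImmersion_of_isOpenImmersion _) p y).mp y.2
  have main : (∀ x : X, P (X.fromSpecStalk x ≫ f)) → ∃ i : X ⟶ (U : Scheme.{u}),
      LocImm.IsLocImmersion i ∧ i ≫ U.ι ≫ p = f := fun h => by
    obtain ⟨k', hk', -, e⟩ := exists_restrict hk p U fun x => (hset.le (h x) : k x ∈ U)
    exact ⟨k', hk', e.trans hkp⟩
  haveI : QuasiCompact (U.ι ≫ p) := ⟨fun U hU hUc => NoetherianSpace.isCompact _⟩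
  haveI : EssFT.EssFiniteType (U.ι ≫ p) :=
    { toLocallyEssFiniteType := isLocallyEssFiniteType_of_locallyOfFiniteType _, toQuasiCompact := ‹_› }
  refine ⟨fun h => ?_, hset ▸ (hβ₂ p).preimage k.continuous, fun h => ?_⟩
  · obtain ⟨k', hk', e⟩ := main h
    exact e ▸ hα k' (U.ι ≫ p) hk' hU
  · obtain ⟨k', hk', e⟩ := main fun x => hα _ f (isLocImmersion_fromSpecStalk x) h
    exact ⟨U, k', U.ι ≫ p, inferInstance, hk', inferInstance, inferInstance, inferInstance, hU, e⟩

end Groth.Agent.LocImmLib
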