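import Groth.Agent.LocImmLib.Union
import Groth.Prelude.Def_EssFT

/-! Morphisms essentially of finite type factor through a localizing immersion. -/

universe u

open CategoryTheory CategoryTheory.Limits AlgebraicGeometry TopologicalSpace

namespace Groth.Agent.LocImmLib

/-- The spectrum of a localization is a localizing immersion. -/
theorem isLocImmersion_SpecMap {A B : CommRingCat.{u}} (φ : A ⟶ B) (h : LocImm.IsLocHom φ.hom) :
    LocImm.IsLocImmersion (Spec.map φ) := by
  refine ⟨fun x => ⟨⟨⊤, isAffineOpen_top _⟩, ⟨⊤, isAffineOpen_top _⟩, trivial, le_rfl, ?_⟩, ?_⟩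
  · have e : (Spec.map φ).appLE ⊤ ⊤ le_rfl = (Scheme.ΓSpecIso A).hom ≫ φ ≫ (Scheme.ΓSpecIso B).inv := by
      rw [← Category.assoc, ← Scheme.ΓSpecIso_naturality, Category.assoc, Iso.hom_inv_id, Category.comp_id,
        Scheme.Hom.appTop, Scheme.Hom.app_eq_appLE]
      rfl
    show LocImm.IsLocHom ((Spec.map φ).appLE ⊤ ⊤ le_rfl).hom
    rw [e, CommRingCat.hom_comp, CommRingCat.hom_comp]
    have h1 : LocImm.IsLocHom (Scheme.ΓSpecIso A).hom.hom :=
      isLocHom_of_bijective _ ((ConcreteCategory.isIso_iff_bijective (Scheme.ΓSpecIso A).hom).mp inferInstance)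
    have h2 : LocImm.IsLocHom (Scheme.ΓSpecIso B).inv.hom :=
      isLocHom_of_bijective _ ((ConcreteCategory.isIso_iff_bijective (Scheme.ΓSpecIso B).inv).mp inferInstance)
    exact isLocHom_comp h1 (isLocHom_comp h h2)
  · obtain ⟨A⟩ := A
    obtain ⟨B⟩ := B
    let := φ.hom.toAlgebra
    obtain ⟨S, hS⟩ := h
    haveI : IsPreimmersion (Spec.map φ) := IsPreimmersion.of_isLocalization (R := A) (S := B) S
    exact (Spec.map φ).isEmbedding.injective

variable {X S : Scheme.{u}}

/-- The morphism factors through a localizing immersion into a separated scheme of finite type. -/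
def HasFactor (f : X ⟶ S) : Prop :=
  ∃ (Y : Scheme.{u}) (k : X ⟶ Y) (p : Y ⟶ S), IsNoetherian Y ∧ LocImm.IsLocImmersion k ∧
    IsSeparated p ∧ LocallyOfFiniteType p ∧ QuasiCompact p ∧ k ≫ p = f

theorem hasFactor_affine [IsNoetherian X] [IsNoetherian S] (f : X ⟶ S) {U : S.Opens} (hU : IsAffineOpen U)
    {V : X.Opens} (hV : IsAffineOpen V) (e : V ≤ f ⁻¹ᵁ U) (h : (f.appLE U V e).hom.EssFiniteType) :
    HasFactor (V.ι ≫ f) := by
  let := (f.appLE U V e).hom.toAlgebra
  haveI : Algebra.EssFiniteType Γ(S, U) Γ(X, V) := h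
  haveI : IsNoetherianRing Γ(S, U) := IsLocallyNoetherian.component_noetherian ⟨U, hU⟩
  let C := Algebra.EssFiniteType.subalgebra Γ(S, U) Γ(X, V)
  haveI : IsNoetherianRing C := Algebra.FiniteType.isNoetherianRing Γ(S, U) C
  let ψ : Γ(S, U) ⟶ CommRingCat.of C := CommRingCat.ofHom (algebraMap Γ(S, U) C)
  let χ : CommRingCat.of C ⟶ Γ(X, V) := CommRingCat.ofHom (algebraMap C Γ(X, V))
  have hψχ : ψ ≫ χ = f.appLE U V e := rfl
  haveI := isNoetherian_opens V
  haveI : LocallyOfFiniteType (Spec.map ψ) := by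
    rw [HasRingHomProperty.Spec_iff (P := @LocallyOfFiniteType)]
    exact RingHom.finiteType_algebraMap.mpr inferInstance
  haveI : IsNoetherian (Spec (CommRingCat.of C)) := inferInstance
  refine ⟨Spec (CommRingCat.of C), hV.isoSpec.hom ≫ Spec.map χ, Spec.map ψ ≫ hU.fromSpec, inferInstance, ?_,
    inferInstance, inferInstance, ⟨fun U hU hUc => NoetherianSpace.isCompact _⟩, ?_⟩
  · haveI : IsNoetherian (Spec Γ(X, V)) :=
      haveI : IsNoetherianRing Γ(X, V) := IsLocallyNoetherian.component_noetherian ⟨V, hV⟩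
      inferInstance
    refine comp (isLocImmersion_of_isOpenImmersion _) (isLocImmersion_SpecMap χ ?_)
    refine ⟨Algebra.EssFiniteType.submonoid Γ(S, U) Γ(X, V), ?_⟩
    exact Algebra.EssFiniteType.isLocalization _ _
  · rw [Category.assoc, ← Spec.map_comp_assoc, hψχ, IsAffineOpen.SpecMap_appLE_fromSpec f hU hV e,
      IsAffineOpen.isoSpec_hom_fromSpec_assoc]

theorem hasFactor_sup [IsNoetherian X] [IsNoetherian S] (f : X ⟶ S) [IsSeparated f] (U U' : X.Opens)
    (h : HasFactor (U.ι ≫ f)) (h' : HasFactor (U'.ι ≫ f)) : HasFactor ((U ⊔ U').ι ≫ f) := by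
  obtain ⟨Y, k, p, _, hk, _, _, _, hkp⟩ := h
  obtain ⟨Y', k', p', _, hk', _, _, _, hkp'⟩ := h'
  haveI := isNoetherian_opens (U ⊔ U')
  haveI := isNoetherian_opens U
  haveI := isNoetherian_opens U'
  let ι := (U ⊔ U').ι
  haveI := isNoetherian_opens (ι ⁻¹ᵁ U)
  haveI := isNoetherian_opens (ι ⁻¹ᵁ U')
  have hcov : ι ⁻¹ᵁ U ⊔ ι ⁻¹ᵁ U' = ⊤ := eq_top_iff.mpr fun x _ => x.2
  exact exists_factor_two (ι ≫ f) _ _ hcov ((ι ∣_ U) ≫ k) ((ι ∣_ U') ≫ k') p p'
    (comp (isLocImmersion_of_isOpenImmersion _) hk) (comp (isLocImmersion_of_isOpenImmersion _) hk')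
    (by rw [Category.assoc, hkp, morphismRestrict_ι_assoc]) (by rw [Category.assoc, hkp', morphismRestrict_ι_assoc])

theorem hasFactor [IsNoetherian X] [IsNoetherian S] (f : X ⟶ S) [IsSeparated f] [EssFT.EssFiniteType f] :
    HasFactor f := by
  classical
  choose U V hx e he using EssFT.LocallyEssFiniteType.exists_appLE_essFiniteType (f := f)
  obtain ⟨s, hs⟩ := isCompact_univ.elim_finite_subcover (fun x => (V x).1.1) (fun x => (V x).1.2)
    fun x _ => Set.mem_iUnion.mpr ⟨x, hx x⟩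
  have key : ∀ t : Finset X, HasFactor ((t.sup fun x => (V x).1).ι ≫ f) := by
    intro t
    induction t using Finset.induction_on with
    | empty =>
      haveI := isNoetherian_opens (⊥ : X.Opens)
      haveI : IsEmpty ((⊥ : X.Opens) : Scheme.{u}) := ⟨fun x => x.2.elim⟩
      rw [Finset.sup_empty]
      exact ⟨_, 𝟙 _, (⊥ : X.Opens).ι ≫ f, inferInstance, isLocImmersion_of_isOpenImmersion _, inferInstance,
        inferInstance, ⟨fun U hU hUc => NoetherianSpace.isCompact _⟩, Category.id_comp _⟩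
    | insert a t ha ih =>
      rw [Finset.sup_insert]
      exact hasFactor_sup f _ _ (hasFactor_affine f (U a).2 (V a).2 (e a) (he a)) ih
  obtain ⟨Y, k, p, hY, hk, hp₁, hp₂, hp₃, hkp⟩ := key s
  have htop : (s.sup fun x => (V x).1) = ⊤ := eq_top_iff.mpr fun x _ => by
    obtain ⟨i, hi, hxi⟩ := Set.mem_iUnion₂.mp (hs (Set.mem_univ x))
    exact (Finset.le_sup (f := fun x => (V x).1) hi) hxi
  generalize hW : (s.sup fun x => (V x).1) = W at k hk hkp htop
  subst htop
  refine ⟨Y, X.topIso.inv ≫ k, p, hY, ?_, hp₁, hp₂, hp₃, ?_⟩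
  · haveI := isNoetherian_opens (⊤ : X.Opens)
    exact comp (isLocImmersion_of_isOpenImmersion _) hk
  · rw [Category.assoc, hkp]
    simp

end Groth.Agent.LocImmLib
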