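import Groth.Agent.LocImmLib.Basic

/-! Composites of localizing immersions, open immersions, and schematically dense neighbourhoods. -/

universe u

open CategoryTheory CategoryTheory.Limits AlgebraicGeometry TopologicalSpace

namespace Groth.Agent.LocImmLib

variable {X Y Z : Scheme.{u}}

theorem isLocHom_of_bijective {A B : Type u} [CommRing A] [CommRing B] (φ : A →+* B)
    (h : Function.Bijective φ) : LocImm.IsLocHom φ := by
  let := φ.toAlgebra
  refine ⟨⊥, ⟨?_, fun z => ?_, fun {a b} e => ⟨1, by rw [show a = b from h.1 e]⟩⟩⟩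
  · rintro ⟨s, hs⟩
    rw [Submonoid.mem_bot] at hs
    subst hs
    simp
  · obtain ⟨a, rfl⟩ := h.2 z
    exact ⟨⟨a, 1⟩, by simp; rfl⟩

theorem isLocHom_comp {A B C : Type u} [CommRing A] [CommRing B] [CommRing C] {φ : A →+* B} {ψ : B →+* C}
    (hφ : LocImm.IsLocHom φ) (hψ : LocImm.IsLocHom ψ) : LocImm.IsLocHom (ψ.comp φ) := by
  let := φ.toAlgebra
  let := ψ.toAlgebra
  let := (ψ.comp φ).toAlgebra
  have : IsScalarTower A B C := .of_algebraMap_eq fun _ => rfl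
  obtain ⟨S, hS⟩ := hφ
  obtain ⟨T, hT⟩ := hψ
  exact ⟨_, IsLocalization.localization_localization_isLocalization S T C⟩

theorem isLocImmersion_of_isOpenImmersion (f : X ⟶ Y) [IsOpenImmersion f] : LocImm.IsLocImmersion f := by
  refine ⟨fun x => ?_, f.isOpenEmbedding.injective⟩
  obtain ⟨V, hV, hxV, -⟩ := exists_isAffineOpen_mem_and_subset (x := x) (U := ⊤) trivial
  refine ⟨⟨f ''ᵁ V, hV.image_of_isOpenImmersion f⟩, ⟨V, hV⟩, hxV, (Scheme.Hom.preimage_image_eq f V).ge,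
    isLocHom_of_bijective _ ((ConcreteCategory.isIso_iff_bijective _).mp ?_)⟩
  haveI := Scheme.Hom.isIso_app f (f ''ᵁ V) (Scheme.Hom.image_le_opensRange f V)
  have : (Scheme.Hom.preimage_image_eq f V).ge = (Scheme.Hom.preimage_image_eq f V).symm.le := rfl
  show IsIso (f.app (f ''ᵁ V) ≫ X.presheaf.map (homOfLE _).op)
  haveI : IsIso (X.presheaf.map (homOfLE (Scheme.Hom.preimage_image_eq f V).ge).op) := by
    rw [show (homOfLE (Scheme.Hom.preimage_image_eq f V).ge).op =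
      (eqToHom (Scheme.Hom.preimage_image_eq f V).symm).op from Subsingleton.elim _ _]
    infer_instance
  exact IsIso.comp_isIso

/-- An affine open inside a chart is a chart. -/
theorem chart_mono (f : X ⟶ Y) {W V : Y.Opens} (hW : IsAffineOpen W) (hWp : IsAffineOpen (f ⁻¹ᵁ W))
    (hl : LocImm.IsLocHom (f.app W).hom) (hV : IsAffineOpen V) (hVW : V ≤ W) :
    IsAffineOpen (f ⁻¹ᵁ V) ∧ LocImm.IsLocHom (f.app V).hom := by
  have hsq : IsPullback (𝟙 X) f f (𝟙 Y) := IsPullback.of_horiz_isIso ⟨by simp⟩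
  have hle : V ≤ (𝟙 Y : Y ⟶ Y) ⁻¹ᵁ W := hVW
  have heq : f ⁻¹ᵁ V = (𝟙 X : X ⟶ X) ⁻¹ᵁ (f ⁻¹ᵁ W) ⊓ f ⁻¹ᵁ V := (inf_eq_right.mpr fun z hz => hVW hz).symm
  have h := (isIso_pushoutSection_iff hsq hle le_rfl heq).mp (isIso_pushoutSection_of_isAffineOpen _ _ _ _ hW hV hWp)
  have haff : IsAffineOpen (f ⁻¹ᵁ V) := by
    have : IsAffine (f ⁻¹ᵁ W : X.Opens) := hWp
    have : IsAffine (V : Y.Opens) := hV
    have : IsAffine (W : Y.Opens) := hW
    exact .of_isIso (Scheme.Hom.isPullback_resLE hsq hle le_rfl heq).isoPullback.hom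
  refine ⟨haff, ?_⟩
  have := isLocHom_of_isPushout h (by rw [← Scheme.Hom.app_eq_appLE]; exact hl)
  rwa [← Scheme.Hom.app_eq_appLE] at this

theorem comp [IsNoetherian X] [IsNoetherian Y] {f : X ⟶ Y} {g : Y ⟶ Z} (hf : LocImm.IsLocImmersion f)
    (hg : LocImm.IsLocImmersion g) : LocImm.IsLocImmersion (f ≫ g) := by
  refine ⟨fun x => ?_, ?_⟩
  · obtain ⟨W', hxW', -, hW', -, hP', hl⟩ := exists_nhd hf x ⊤ trivial ⊤ trivial
    obtain ⟨W₂, hxW₂, -, hW₂, hWW', hP₂, hl₂⟩ := exists_nhd hg (f x) W' hxW' ⊤ trivial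
    obtain ⟨hA, hl'⟩ := chart_mono f hW' hP' hl hP₂ hWW'
    refine ⟨⟨W₂, hW₂⟩, ⟨f ⁻¹ᵁ g ⁻¹ᵁ W₂, hA⟩, hxW₂, le_rfl, ?_⟩
    have e : (f ≫ g).appLE W₂ (f ⁻¹ᵁ g ⁻¹ᵁ W₂) le_rfl = g.app W₂ ≫ f.app (g ⁻¹ᵁ W₂) := by
      rw [← Scheme.Hom.comp_app, Scheme.Hom.app_eq_appLE]
      rfl
    rw [e, CommRingCat.hom_comp]
    exact isLocHom_comp hl₂ hl'
  · intro a b hab
    exact hf.2 (hg.2 hab)

/-- Near the image, a localizing immersion is schematically dominant. -/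
theorem exists_nhd_ker_eq_bot [IsNoetherian X] [IsNoetherian Y] {f : X ⟶ Y} (hf : LocImm.IsLocImmersion f) :
    ∃ Q : Y.Opens, Set.range f ⊆ Q ∧ ∀ A : Y.affineOpens, A.1 ≤ Q → f.ker.ideal A = ⊥ := by
  haveI : QuasiCompact f := by
    have := isPreimmersion hf
    exact ⟨fun U hU hUc => NoetherianSpace.isCompact _⟩
  have key : ∀ x : X, ∃ D : Y.affineOpens, f x ∈ D.1 ∧ f.ker.ideal D = ⊥ := by
    intro x
    obtain ⟨W, hxW, -, hW, -, hP, hl⟩ := exists_nhd hf x ⊤ trivial ⊤ trivial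
    let := (f.app W).hom.toAlgebra
    obtain ⟨S, hS⟩ := hl
    haveI : IsNoetherianRing Γ(Y, W) := IsLocallyNoetherian.component_noetherian ⟨W, hW⟩
    obtain ⟨t, ht⟩ := IsNoetherian.noetherian (f.ker.ideal ⟨W, hW⟩)
    have hk : ∀ a ∈ t, ∃ s ∈ S, s * a = 0 := fun a ha => by
      have : a ∈ f.ker.ideal ⟨W, hW⟩ := ht ▸ Submodule.subset_span ha
      rw [Scheme.Hom.ker_apply, RingHom.mem_ker] at this
      obtain ⟨⟨s, hs⟩, hsa⟩ := (IsLocalization.map_eq_zero_iff S Γ(X, f ⁻¹ᵁ W) a).mp this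
      exact ⟨s, hs, hsa⟩
    choose s hsS hsa using hk
    classical
    let s₀ := ∏ a ∈ t.attach, s a.1 a.2
    have hs₀ : s₀ ∈ S := Submonoid.prod_mem _ fun a _ => hsS _ _
    refine ⟨Y.affineBasicOpen (U := ⟨W, hW⟩) s₀, ?_, ?_⟩
    · have hu : IsUnit ((f.app W).hom s₀) := IsLocalization.map_units Γ(X, f ⁻¹ᵁ W) ⟨s₀, hs₀⟩
      show x ∈ f ⁻¹ᵁ Y.basicOpen s₀
      rw [Scheme.preimage_basicOpen]
      exact (X.basicOpen_of_isUnit hu).ge hxW
    · rw [← Scheme.IdealSheafData.map_ideal_basicOpen, ← ht, Ideal.map_span]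
      refine Ideal.span_eq_bot.mpr ?_
      rintro _ ⟨a, ha, rfl⟩
      have hu : IsUnit ((Y.presheaf.map (homOfLE (Y.basicOpen_le s₀)).op).hom s₀) :=
        RingedSpace.isUnit_res_basicOpen Y.toRingedSpace s₀
      refine hu.mul_right_eq_zero.mp ?_
      rw [← map_mul]
      have : s₀ * a = 0 := by
        obtain ⟨c, hc⟩ := Finset.dvd_prod_of_mem (fun a : t => s a.1 a.2) (Finset.mem_attach t ⟨a, ha⟩)
        show (∏ a ∈ t.attach, s a.1 a.2) * a = 0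
        rw [hc, mul_comm (s a ha) c, mul_assoc, hsa a ha, mul_zero]
      rw [this, map_zero]
  choose D hxD hD using key
  refine ⟨⨆ x, (D x).1, ?_, fun A hA => ?_⟩
  · rintro _ ⟨x, rfl⟩
    exact Opens.mem_iSup.mpr ⟨x, hxD x⟩
  · rw [eq_bot_iff]
    intro a ha
    rw [Submodule.mem_bot]
    refine Y.IsSheaf.section_ext fun y hy => ?_
    obtain ⟨x, hyx⟩ := Opens.mem_iSup.mp (hA hy)
    obtain ⟨r, hr, hyr⟩ := A.2.exists_basicOpen_le ⟨y, hyx⟩ hy
    refine ⟨Y.basicOpen r, Y.basicOpen_le r, hyr, ?_⟩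
    have h1 : (Y.presheaf.map (homOfLE (Y.basicOpen_le r)).op).hom a ∈ f.ker.ideal (Y.affineBasicOpen r) := by
      rw [← Scheme.IdealSheafData.map_ideal_basicOpen]
      exact Ideal.mem_map_of_mem _ ha
    have h2 : f.ker.ideal (Y.affineBasicOpen r) = ⊥ := by
      have := f.ker.map_ideal (U := Y.affineBasicOpen r) (V := D x) hr
      rw [← this, hD x, Ideal.map_bot]
    rw [h2] at h1
    rw [map_zero]
    exact Ideal.mem_bot.mp h1

end Groth.Agent.LocImmLib
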