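import Groth.Agent.LocImmLib.Kit
import Groth.Agent.NagataCompLib.Tools
import Groth.Agent.S18195
import Groth.Agent.S18202

/-! Spreading out localizing immersions into schemes of finite type. -/

universe u

open CategoryTheory CategoryTheory.Limits AlgebraicGeometry TopologicalSpace

namespace Groth.Agent.LocImmLib

/-- Two generization-closed sets with no pair in a closed set have neighbourhoods with none. -/
theorem exists_nhds_avoid {E A B : Type u} [TopologicalSpace E] [TopologicalSpace A] [TopologicalSpace B]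
    [NoetherianSpace E] [QuasiSober E] {D : Set E} (hD : IsClosed D) (p : E → A) (q : E → B) (hp : Continuous p)
    (hq : Continuous q) {SA : Set A} {SB : Set B} (hSA : StableUnderGeneralization SA)
    (hSB : StableUnderGeneralization SB) (h : ∀ e ∈ D, p e ∈ SA → q e ∉ SB) :
    ∃ (VA : Opens A) (VB : Opens B), SA ⊆ VA ∧ SB ⊆ VB ∧ ∀ e ∈ D, p e ∈ VA → q e ∉ VB := by
  classical
  obtain ⟨T, hTf, hTc, hTi, rfl⟩ := NoetherianSpace.exists_finite_set_isClosed_irreducible hD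
  let η : ∀ K ∈ T, E := fun K hK => (hTi K hK).genericPoint
  have hη : ∀ K (hK : K ∈ T), IsGenericPoint (η K hK) K := fun K hK =>
    (hTi K hK).isGenericPoint_genericPoint (hTc K hK)
  haveI := hTf.to_subtype
  let badA : Set A := ⋃ K : T, if p (η K.1 K.2) ∈ SA then ∅ else closure {p (η K.1 K.2)}
  let badB : Set B := ⋃ K : T, if q (η K.1 K.2) ∈ SB then ∅ else closure {q (η K.1 K.2)}
  have hA : IsClosed badA := isClosed_iUnion_of_finite fun K => by split_ifs <;> simp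
  have hB : IsClosed badB := isClosed_iUnion_of_finite fun K => by split_ifs <;> simp
  refine ⟨⟨badAᶜ, hA.isOpen_compl⟩, ⟨badBᶜ, hB.isOpen_compl⟩, fun a ha hbad => ?_, fun b hb hbad => ?_,
    fun e he hea heb => ?_⟩
  · obtain ⟨K, hK⟩ := Set.mem_iUnion.mp hbad
    split_ifs at hK with hc
    · exact hK
    · exact hc (hSA (specializes_iff_mem_closure.mpr hK) ha)
  · obtain ⟨K, hK⟩ := Set.mem_iUnion.mp hbad
    split_ifs at hK with hc
    · exact hK
    · exact hc (hSB (specializes_iff_mem_closure.mpr hK) hb)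
  · obtain ⟨K, hK, heK⟩ := he
    have hs := (hη K hK).specializes heK
    by_cases hc : p (η K hK) ∈ SA
    · refine heb (Set.mem_iUnion.mpr ⟨⟨K, hK⟩, ?_⟩)
      rw [if_neg (h _ ⟨K, hK, (hη K hK).mem⟩ hc)]
      exact specializes_iff_mem_closure.mp (hs.map hq)
    · refine hea (Set.mem_iUnion.mpr ⟨⟨K, hK⟩, ?_⟩)
      rw [if_neg hc]
      exact specializes_iff_mem_closure.mp (hs.map hp)

variable {X Y : Scheme.{u}}

/-- A morphism of finite type is an open immersion near a point where it is an isomorphism on stalks. -/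
theorem exists_nhd_isOpenImmersion [IsLocallyNoetherian Y] (φ : X ⟶ Y) [LocallyOfFiniteType φ] (x : X)
    (hx : IsIso (φ.stalkMap x)) : ∃ N : X.Opens, x ∈ N ∧ IsOpenImmersion (N.ι ≫ φ) := by
  haveI := hx
  haveI : IsLocallyNoetherian X := LocallyOfFiniteType.isLocallyNoetherian φ
  obtain ⟨U, hyU, s, hψ, hs⟩ := spread_out_of_isGermInjective' (𝟙 Y) φ (x := φ x)
    (Spec.map (inv (φ.stalkMap x)) ≫ X.fromSpecStalk x) (by
      rw [Category.assoc, ← Scheme.SpecMap_stalkMap_fromSpecStalk, ← Spec.map_comp_assoc, IsIso.hom_inv_id,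
        Spec.map_id, Category.id_comp, Category.comp_id])
  rw [Category.comp_id] at hs
  let M : X.Opens := φ ⁻¹ᵁ U
  let x' : M := ⟨x, hyU⟩
  have hl : M.fromSpecStalkOfMem x hyU ≫ (φ ∣_ U) = Spec.map (φ.stalkMap x) ≫ U.fromSpecStalkOfMem (φ x) hyU := by
    rw [← cancel_mono U.ι, Category.assoc, morphismRestrict_ι, Category.assoc]
    erw [Scheme.Opens.fromSpecStalkOfMem_ι_assoc, Scheme.Opens.fromSpecStalkOfMem_ι]
    rw [Scheme.SpecMap_stalkMap_fromSpecStalk]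
  obtain ⟨N₀, hxN₀, hN₀⟩ := spread_out_unique_of_isGermInjective' (x := x') M.ι ((φ ∣_ U) ≫ s) (by
    refine (cancel_epi (Spec.map (inv (M.ι.stalkMap ⟨x, hyU⟩)))).mp ?_
    rw [← Category.assoc, ← Category.assoc]
    show M.fromSpecStalkOfMem x hyU ≫ M.ι = M.fromSpecStalkOfMem x hyU ≫ (φ ∣_ U) ≫ s
    rw [reassoc_of% hl, ← hψ, ← Spec.map_comp_assoc, IsIso.inv_hom_id, Spec.map_id, Category.id_comp]
    exact Scheme.Opens.fromSpecStalkOfMem_ι M x hyU)
  let V : (U : Scheme.{u}).Opens := s ⁻¹ᵁ (N₀.ι ≫ M.ι).opensRange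
  let i : (N₀ : Scheme.{u}) ⟶ V := IsOpenImmersion.lift V.ι (N₀.ι ≫ (φ ∣_ U)) (by
    rw [Scheme.Opens.range_ι]
    rintro _ ⟨n, rfl⟩
    refine ⟨n, ?_⟩
    rw [← Scheme.Hom.comp_apply (N₀.ι ≫ (φ ∣_ U)), Category.assoc, ← hN₀])
  have hi : i ≫ V.ι = N₀.ι ≫ (φ ∣_ U) := IsOpenImmersion.lift_fac _ _ _
  let r : (V : Scheme.{u}) ⟶ N₀ := IsOpenImmersion.lift (N₀.ι ≫ M.ι) (V.ι ≫ s) (by
    rintro _ ⟨v, rfl⟩
    exact v.2)
  have hr : r ≫ N₀.ι ≫ M.ι = V.ι ≫ s := IsOpenImmersion.lift_fac _ _ _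
  haveI : IsIso i := by
    refine ⟨r, ?_, ?_⟩
    · rw [← cancel_mono (N₀.ι ≫ M.ι), Category.assoc, hr, reassoc_of% hi, Category.id_comp, hN₀]
    · rw [← cancel_mono (V.ι ≫ U.ι), Category.assoc, reassoc_of% hi, morphismRestrict_ι, Category.id_comp,
        reassoc_of% hr, hs]
  have hopen : IsOpenImmersion (N₀.ι ≫ M.ι ≫ φ) := by
    rw [← morphismRestrict_ι, ← reassoc_of% hi]
    infer_instance
  refine ⟨(N₀.ι ≫ M.ι).opensRange, ⟨⟨x', hxN₀⟩, rfl⟩, ?_⟩
  have e : (N₀.ι ≫ M.ι).opensRange.ι ≫ φ = (N₀.ι ≫ M.ι).isoOpensRange.inv ≫ N₀.ι ≫ M.ι ≫ φ := by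
    rw [← Category.assoc N₀.ι, ← Category.assoc (Scheme.Hom.isoOpensRange _).inv, Scheme.Hom.isoOpensRange_inv_comp]
  rw [e]
  infer_instance

/-- A morphism of finite type composing a localizing immersion to a localizing immersion is an open immersion
on a neighbourhood of the image. -/
theorem exists_openImmersion_nhd {Γ : Scheme.{u}} [IsNoetherian X] [IsNoetherian Y] [IsNoetherian Γ] (k : X ⟶ Γ)
    (hk : LocImm.IsLocImmersion k) (φ : Γ ⟶ Y) [LocallyOfFiniteType φ] (hkφ : LocImm.IsLocImmersion (k ≫ φ)) :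
    ∃ W : Γ.Opens, Set.range k ⊆ W ∧ IsOpenImmersion (W.ι ≫ φ) := by
  have key : ∀ x : X, ∃ N : Γ.Opens, k x ∈ N ∧ IsOpenImmersion (N.ι ≫ φ) := fun x => by
    refine exists_nhd_isOpenImmersion φ (k x) ?_
    haveI := isIso_stalkMap hk.1 x
    haveI : IsIso (φ.stalkMap (k x) ≫ k.stalkMap x) := by
      rw [← Scheme.Hom.stalkMap_comp]
      exact isIso_stalkMap hkφ.1 x
    exact IsIso.of_isIso_comp_right _ (k.stalkMap x)
  choose N hxN hN using key
  haveI : QuasiCompact φ := ⟨fun U hU hUc => NoetherianSpace.isCompact _⟩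
  haveI : IsLocallyNoetherian (pullback φ φ) := LocallyOfFiniteType.isLocallyNoetherian (pullback.fst φ φ)
  haveI : CompactSpace ↥(pullback φ φ) := QuasiCompact.compactSpace_of_compactSpace (pullback.fst φ φ)
  haveI : IsNoetherian (pullback φ φ) := { }
  let D : Set ↥(pullback φ φ) := {e | ∀ x, pullback.fst φ φ e ∈ N x → pullback.snd φ φ e ∉ N x}
  have hD : IsClosed D := by
    have : D = (⋃ x, (pullback.fst φ φ ⁻¹' (N x : Set Γ) ∩ pullback.snd φ φ ⁻¹' (N x : Set Γ)))ᶜ := by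
      ext e
      simp [D]
    rw [this]
    exact (isOpen_iUnion fun x => ((N x).isOpen.preimage (pullback.fst φ φ).continuous).inter
      ((N x).isOpen.preimage (pullback.snd φ φ).continuous)).isClosed_compl
  obtain ⟨VA, VB, hA, hB, hAB⟩ := exists_nhds_avoid hD _ _ (pullback.fst φ φ).continuous (pullback.snd φ φ).continuous
    (stableUnderGeneralization_range hk.1) (stableUnderGeneralization_range hk.1) (by
      rintro e he ⟨a, ha⟩ ⟨b, hb⟩
      have hab : a = b := hkφ.2 (by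
        show φ (k a) = φ (k b)
        rw [ha, hb, ← Scheme.Hom.comp_apply, pullback.condition, Scheme.Hom.comp_apply])
      exact he a (ha ▸ hxN a) (hb ▸ hab ▸ hxN a))
  let W : Γ.Opens := (⨆ x, N x) ⊓ VA ⊓ VB
  refine ⟨W, ?_, ?_⟩
  · rintro _ ⟨x, rfl⟩
    exact ⟨⟨Opens.mem_iSup.mpr ⟨x, hxN x⟩, hA ⟨x, rfl⟩⟩, hB ⟨x, rfl⟩⟩
  · refine IsOpenImmersion.of_forall_source_exists _ (fun a b hab => ?_) fun w => ?_
    · obtain ⟨e, hea, heb⟩ := Scheme.Pullback.exists_preimage_pullback (f := φ) (g := φ) a.1 b.1 hab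
      have : e ∉ D := fun he => hAB e he (hea ▸ a.2.1.2) (heb ▸ b.2.2)
      simp only [D, Set.mem_setOf_eq, not_forall, not_not] at this
      obtain ⟨x, h1, h2⟩ := this
      rw [hea] at h1
      rw [heb] at h2
      haveI := hN x
      have := ((N x).ι ≫ φ).isOpenEmbedding.injective (a₁ := ⟨a.1, h1⟩) (a₂ := ⟨b.1, h2⟩) hab
      exact Subtype.ext (congrArg Subtype.val this :)
    · obtain ⟨x, hx⟩ := Opens.mem_iSup.mp w.2.1.1
      haveI := hN x
      let i := (W.ι ∣_ N x) ≫ (N x).ι ≫ φ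
      refine ⟨_, (W.ι ⁻¹ᵁ N x).ι, inferInstance, by rw [Scheme.Opens.opensRange_ι]; exact hx, ?_⟩
      rw [← Category.assoc, ← morphismRestrict_ι, Category.assoc]
      infer_instance

/-- A localizing immersion corestricted to an open. -/
theorem lift_opens [IsNoetherian X] [IsNoetherian Y] {f : X ⟶ Y} (hf : LocImm.IsLocImmersion f) (Q : Y.Opens)
    (hQ : Set.range f ⊆ Q) :
    ∃ k : X ⟶ (Q : Scheme.{u}), k ≫ Q.ι = f ∧ LocImm.IsLocImmersion k := by
  let k : X ⟶ (Q : Scheme.{u}) := IsOpenImmersion.lift Q.ι f (by rw [Scheme.Opens.range_ι]; exact hQ)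
  have hk : k ≫ Q.ι = f := IsOpenImmersion.lift_fac _ _ _
  refine ⟨k, hk, ?_⟩
  haveI : IsNoetherian (Q : Scheme.{u}) :=
    haveI : CompactSpace Q := isCompact_iff_compactSpace.mp (NoetherianSpace.isCompact _)
    haveI : IsLocallyNoetherian (Q : Scheme.{u}) := isLocallyNoetherian_of_isOpenImmersion Q.ι
    { }
  have hsq : IsPullback (𝟙 X) k f Q.ι := by
    refine ⟨⟨by rw [Category.id_comp, hk]⟩, ⟨PullbackCone.IsLimit.mk _ (fun c => c.fst)
      (fun c => Category.comp_id _) (fun c => ?_) (fun c m h1 _ => by simpa using h1)⟩⟩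
    rw [← cancel_mono Q.ι, Category.assoc, hk]
    exact c.condition
  have hbc := Groth.Agent.S18202.result f Q.ι hf
  rw [← hsq.isoPullback_hom_snd]
  haveI : IsNoetherian (pullback f Q.ι) :=
    haveI : CompactSpace ↥(pullback f Q.ι) := hsq.isoPullback.hom.homeomorph.compactSpace
    haveI : IsLocallyNoetherian (pullback f Q.ι) := isLocallyNoetherian_of_isOpenImmersion hsq.isoPullback.inv
    { }
  exact comp (isLocImmersion_of_isOpenImmersion _) hbc

/-- A localizing immersion into two schemes of finite type over a base factors through a common open of both. -/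
theorem exists_common_nhd {Y₁ Y₂ S : Scheme.{u}} [IsNoetherian X] [IsNoetherian Y₁] [IsNoetherian Y₂] [IsNoetherian S]
    (f₁ : X ⟶ Y₁) (f₂ : X ⟶ Y₂) (π₁ : Y₁ ⟶ S) (π₂ : Y₂ ⟶ S) (hf₁ : LocImm.IsLocImmersion f₁)
    (hf₂ : LocImm.IsLocImmersion f₂) [IsSeparated π₁] [IsSeparated π₂] [LocallyOfFiniteType π₁]
    [LocallyOfFiniteType π₂] (h : f₁ ≫ π₁ = f₂ ≫ π₂) :
    ∃ (W : Scheme.{u}) (k : X ⟶ W) (g₁ : W ⟶ Y₁) (g₂ : W ⟶ Y₂), IsNoetherian W ∧ LocImm.IsLocImmersion k ∧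
      IsOpenImmersion g₁ ∧ IsOpenImmersion g₂ ∧ k ≫ g₁ = f₁ ∧ k ≫ g₂ = f₂ ∧ g₁ ≫ π₁ = g₂ ≫ π₂ := by
  haveI : QuasiCompact π₁ := ⟨fun U hU hUc => NoetherianSpace.isCompact _⟩
  haveI : QuasiCompact π₂ := ⟨fun U hU hUc => NoetherianSpace.isCompact _⟩
  let σ : X ⟶ pullback π₁ π₂ := pullback.lift f₁ f₂ h
  haveI : IsLocallyNoetherian (pullback π₁ π₂) := LocallyOfFiniteType.isLocallyNoetherian (pullback.fst π₁ π₂)
  haveI : CompactSpace ↥(pullback π₁ π₂) := QuasiCompact.compactSpace_of_compactSpace (pullback.fst π₁ π₂)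
  haveI : IsNoetherian (pullback π₁ π₂) := { }
  haveI : QuasiCompact σ := ⟨fun U hU hUc => NoetherianSpace.isCompact _⟩
  haveI : IsLocallyNoetherian σ.image := LocallyOfFiniteType.isLocallyNoetherian σ.imageι
  haveI : CompactSpace σ.image := QuasiCompact.compactSpace_of_compactSpace σ.imageι
  haveI : IsNoetherian σ.image := { }
  let φ₁ : σ.image ⟶ Y₁ := σ.imageι ≫ pullback.fst π₁ π₂
  let φ₂ : σ.image ⟶ Y₂ := σ.imageι ≫ pullback.snd π₁ π₂
  have e₁ : σ.toImage ≫ φ₁ = f₁ := by rw [Scheme.Hom.toImage_imageι_assoc, pullback.lift_fst]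
  have e₂ : σ.toImage ≫ φ₂ = f₂ := by rw [Scheme.Hom.toImage_imageι_assoc, pullback.lift_snd]
  have hk : LocImm.IsLocImmersion σ.toImage :=
    Groth.Agent.S18195.result σ.toImage φ₁ (e₁.symm ▸ hf₁) fun U =>
      TopCat.Presheaf.app_injective_of_stalkFunctor_map_injective (F := σ.image.sheaf) σ.toImage.c U
        fun x _ => σ.stalkFunctor_toImage_injective x
  obtain ⟨W₁, hW₁, hi₁⟩ := exists_openImmersion_nhd σ.toImage hk φ₁ (e₁.symm ▸ hf₁)
  obtain ⟨W₂, hW₂, hi₂⟩ := exists_openImmersion_nhd σ.toImage hk φ₂ (e₂.symm ▸ hf₂)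
  have hr : Set.range σ.toImage ⊆ (W₁ ⊓ W₂ : σ.image.Opens) := fun z hz => ⟨hW₁ hz, hW₂ hz⟩
  obtain ⟨k, hkι, hkl⟩ := lift_opens hk (W₁ ⊓ W₂) hr
  haveI : CompactSpace (W₁ ⊓ W₂ : σ.image.Opens) := isCompact_iff_compactSpace.mp (NoetherianSpace.isCompact _)
  haveI : IsLocallyNoetherian ((W₁ ⊓ W₂ : σ.image.Opens) : Scheme.{u}) :=
    isLocallyNoetherian_of_isOpenImmersion (W₁ ⊓ W₂ : σ.image.Opens).ι
  haveI := hi₁
  haveI := hi₂
  refine ⟨(W₁ ⊓ W₂ : σ.image.Opens), k, (W₁ ⊓ W₂ : σ.image.Opens).ι ≫ φ₁, (W₁ ⊓ W₂ : σ.image.Opens).ι ≫ φ₂, { },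
    hkl, ?_, ?_, ?_, ?_, ?_⟩
  · rw [← σ.image.homOfLE_ι (inf_le_left : W₁ ⊓ W₂ ≤ W₁), Category.assoc]
    infer_instance
  · rw [← σ.image.homOfLE_ι (inf_le_right : W₁ ⊓ W₂ ≤ W₂), Category.assoc]
    infer_instance
  · rw [reassoc_of% hkι, e₁]
  · rw [reassoc_of% hkι, e₂]
  · simp only [φ₁, φ₂, Category.assoc, pullback.condition]

end Groth.Agent.LocImmLib
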